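import Groth.Agent.Misc12.ElkikFEt.Model

/-!
# Continuity of polynomial functions
-/

set_option autoImplicit false

universe u

namespace Groth.Misc12.ElkikFEt

open MvPolynomial

section cont

variable {A' : Type u} [CommRing A'] {s : A'} {L' : Type u} [CommRing L'] [Algebra A' L']

theorem Small.add {n : ℕ} {a b : L'} (ha : Small s n a) (hb : Small s n b) : Small s n (a + b) := by
  obtain ⟨x, rfl⟩ := ha; obtain ⟨y, rfl⟩ := hb
  exact ⟨x + y, by rw [← map_add, mul_add]⟩

variable [IsLocalization.Away s L']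

theorem Small.exists_mul (l : L') : ∃ b : ℕ, ∀ n d, Small s (n + b) d → Small s n (d * l) := by
  obtain ⟨b, a, ha⟩ := IsLocalization.Away.surj s l
  refine ⟨b, fun n d hd => ?_⟩
  obtain ⟨x, rfl⟩ := hd
  refine ⟨x * a, ?_⟩
  simp only [map_mul, map_pow, pow_add] at *
  linear_combination (algebraMap A' L' s ^ n * algebraMap A' L' x) * ha

/-- Polynomials are continuous. -/
theorem Small.exists_eval {σ : Type} (x : σ → L') (q : MvPolynomial σ L') :
    ∃ k : ℕ, ∀ n (y : σ → L'), (∀ i, Small s (n + k) (y i - x i)) → Small s n (eval y q - eval x q) := by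
  induction q using MvPolynomial.induction_on with
  | C a => exact ⟨0, fun n y _ => by rw [eval_C, eval_C, sub_self]; exact ⟨0, by simp⟩⟩
  | add p q hp hq =>
    obtain ⟨k₁, h₁⟩ := hp
    obtain ⟨k₂, h₂⟩ := hq
    refine ⟨k₁ + k₂, fun n y hy => ?_⟩
    rw [map_add, map_add, add_sub_add_comm]
    exact (h₁ n y fun i => (hy i).mono (by omega)).add (h₂ n y fun i => (hy i).mono (by omega))
  | mul_X p i hp =>
    obtain ⟨k₁, h₁⟩ := hp
    obtain ⟨b₁, hb₁⟩ := Small.exists_mul (s := s) (eval x p)
    obtain ⟨b₂, hb₂⟩ := Small.exists_mul (s := s) (x i)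
    refine ⟨k₁ + b₁ + b₂, fun n y hy => ?_⟩
    have hd : Small s n ((eval y p - eval x p) * (y i - x i)) := by
      obtain ⟨u, hu⟩ := h₁ n y fun j => (hy j).mono (by omega)
      obtain ⟨v, hv⟩ := (hy i).mono (show 0 ≤ n + (k₁ + b₁ + b₂) by omega)
      exact ⟨u * v, by rw [hu, hv, ← map_mul, pow_zero, one_mul, mul_assoc]⟩
    rw [map_mul, map_mul, eval_X, eval_X, show eval y p * y i - eval x p * x i =
      (eval y p - eval x p) * (y i - x i) + ((eval y p - eval x p) * x i + (y i - x i) * eval x p) by ring]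
    exact hd.add ((hb₂ n _ (h₁ (n + b₂) y fun j => (hy j).mono (by omega))).add
      (hb₁ n _ ((hy i).mono (by omega))))

end cont

/-- Polynomials are continuous. -/
theorem exists_small_eval {A' : Type u} [CommRing A'] {s : A'} {L' : Type u} [CommRing L'] [Algebra A' L']
    [IsLocalization.Away s L'] {σ : Type} (x : σ → L') (q : MvPolynomial σ L') :
    ∃ k : ℕ, ∀ n (y : σ → L'), (∀ i, Small s (n + k) (y i - x i)) → Small s n (eval y q - eval x q) :=
  Small.exists_eval x q

end Groth.Misc12.ElkikFEt
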