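import Mathlib

/-!
# Coordinates for finite étale algebras

A finite étale algebra together with a split embedding into a free module `Fin N → R` is recorded by a
multiplication table, the unit and the separability element.
-/

set_option autoImplicit false

universe u

namespace Groth.Misc12.ElkikFEt

open TensorProduct

variable {R : Type u} [CommRing R] {N : ℕ}

/-- Multiplication table, unit and separability element. -/
@[ext]
structure Datum (R : Type u) (N : ℕ) where
  /-- multiplication table -/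
  μ : Fin N → Fin N → Fin N → R
  /-- unit -/
  u : Fin N → R
  /-- separability element -/
  s : Fin N → Fin N → R

namespace Datum

/-- Base change of the coordinates. -/
def map {R' : Type u} (f : R → R') (d : Datum R N) : Datum R' N :=
  ⟨fun i j k => f (d.μ i j k), fun i => f (d.u i), fun i j => f (d.s i j)⟩

variable (d : Datum R N)

/-- The multiplication. -/
def mul : (Fin N → R) →ₗ[R] (Fin N → R) →ₗ[R] (Fin N → R) :=
  LinearMap.mk₂ R (fun x y => ∑ i, ∑ j, (x i * y j) • d.μ i j)
    (fun _ _ _ => by simp [add_mul, add_smul, Finset.sum_add_distrib])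
    (fun _ _ _ => by simp [Finset.smul_sum, smul_smul, mul_assoc])
    (fun _ _ _ => by simp [mul_add, add_smul, Finset.sum_add_distrib])
    (fun _ _ _ => by simp [Finset.smul_sum, smul_smul, mul_left_comm])

theorem mul_apply (x y : Fin N → R) (k : Fin N) :
    d.mul x y k = ∑ i, ∑ j, x i * y j * d.μ i j k := by
  simp [mul]

/-- The basis vectors. -/
abbrev bv (i : Fin N) : Fin N → R := Pi.single i 1

theorem mul_bv (i j : Fin N) : d.mul (bv i) (bv j) = d.μ i j := by
  ext k
  rw [mul_apply, Finset.sum_eq_single i, Finset.sum_eq_single j]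
  · simp
  · intro b _ hb; simp [Pi.single_eq_of_ne hb]
  · simp
  · intro b _ hb; simp [Pi.single_eq_of_ne hb]
  · simp

theorem ext_lin {M : Type*} [AddCommMonoid M] [Module R M] {f g : (Fin N → R) →ₗ[R] M}
    (h : ∀ i, f (bv i) = g (bv i)) : f = g :=
  (Pi.basisFun R (Fin N)).ext fun i => by simpa using h i

theorem eq_sum_bv (x : Fin N → R) : x = ∑ i, x i • bv i := pi_eq_sum_univ' x

theorem map_mul' {R' : Type u} [CommRing R'] (f : R →+* R') (x y : Fin N → R) :
    (f ∘ d.mul x y) = (d.map f).mul (f ∘ x) (f ∘ y) := by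
  ext k
  simp [mul_apply, map, map_sum]

theorem map_bv {R' : Type u} [CommRing R'] (f : R →+* R') (i : Fin N) :
    f ∘ (bv i : Fin N → R) = bv i := by
  ext j
  by_cases h : j = i
  · subst h; simp
  · simp [Pi.single_eq_of_ne h]

/-- The index set of the equations. -/
abbrev Eqs (N : ℕ) : Type :=
  (Fin N × Fin N × Fin N) ⊕ (Fin N × Fin N × Fin N × Fin N) ⊕ Fin N ⊕ (Fin N × Fin N × Fin N) ⊕
    Fin N ⊕ (Fin N × Fin N × Fin N) ⊕ (Fin N × Fin N)

/-- The equations. -/
def defect : Eqs N → R
  | .inl (i, j, k) => d.μ i j k - d.μ j i k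
  | .inr (.inl (i, j, l, k)) => d.mul (d.μ i j) (bv l) k - d.mul (bv i) (d.μ j l) k
  | .inr (.inr (.inl k)) => d.mul d.u d.u k - d.u k
  | .inr (.inr (.inr (.inl (i, j, k)))) => d.mul d.u (d.μ i j) k - d.μ i j k
  | .inr (.inr (.inr (.inr (.inl k)))) => (∑ a, ∑ b, d.s a b * d.μ a b k) - d.u k
  | .inr (.inr (.inr (.inr (.inr (.inl (i, p, q)))))) =>
      (∑ a, ∑ b, d.s a b * (d.μ i a p * d.mul d.u (bv b) q)) -
        ∑ a, ∑ b, d.s a b * (d.mul d.u (bv a) p * d.μ i b q)
  | .inr (.inr (.inr (.inr (.inr (.inr (p, q)))))) =>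
      (∑ a, ∑ b, d.s a b * (d.mul d.u (bv a) p * d.mul d.u (bv b) q)) - d.s p q

theorem map_defect {R' : Type u} [CommRing R'] (f : R →+* R') (e : Eqs N) :
    (d.map f).defect e = f (d.defect e) := by
  have hm : ∀ x y k, (d.map f).mul (f ∘ x) (f ∘ y) k = f (d.mul x y k) := fun x y k =>
    (congrFun (d.map_mul' f x y) k).symm
  have h1 : ∀ a k, (d.map f).mul (d.map f).u (bv a) k = f (d.mul d.u (bv a) k) := fun a k => by
    rw [← hm, map_bv]; rfl
  rcases e with ⟨i, j, k⟩ | ⟨i, j, l, k⟩ | k | ⟨i, j, k⟩ | k | ⟨i, p, q⟩ | ⟨p, q⟩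
  · simp [defect, map]
  · simp only [defect, map_sub]
    rw [← hm, ← hm, map_bv, map_bv]; rfl
  · simp only [defect, map_sub]
    rw [← hm]; rfl
  · simp only [defect, map_sub]
    rw [← hm]; rfl
  · simp [defect, map, map_sum]
  · simp only [defect, map_sub, map_sum, map_mul, h1]
    rfl
  · simp only [defect, map_sub, map_sum, map_mul, h1]
    rfl

/-- The equations hold. -/
def Valid : Prop := ∀ e, d.defect e = 0

theorem Valid.map {R' : Type u} [CommRing R'] (f : R →+* R') (h : d.Valid) : (d.map f).Valid :=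
  fun e => by rw [map_defect, h e, map_zero]

variable {d} (h : d.Valid)
include h

theorem Valid.μ_comm (i j : Fin N) : d.μ i j = d.μ j i :=
  funext fun k => sub_eq_zero.1 (h (.inl (i, j, k)))

theorem Valid.mul_comm (x y : Fin N → R) : d.mul x y = d.mul y x := by
  have : d.mul = d.mul.flip := ext_lin fun i => ext_lin fun j => by
    rw [LinearMap.flip_apply, mul_bv, mul_bv, h.μ_comm]
  exact congrArg (fun f : (Fin N → R) →ₗ[R] (Fin N → R) →ₗ[R] (Fin N → R) => f x y) this

theorem Valid.mul_assoc (x y z : Fin N → R) : d.mul (d.mul x y) z = d.mul x (d.mul y z) := by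
  rw [eq_sum_bv x, eq_sum_bv y, eq_sum_bv z]
  simp only [map_sum, map_smul, LinearMap.sum_apply, LinearMap.smul_apply, Finset.smul_sum, mul_bv]
  refine Finset.sum_congr rfl fun l _ => ?_
  refine Finset.sum_congr rfl fun j _ => ?_
  refine Finset.sum_congr rfl fun i _ => ?_
  rw [funext fun k => sub_eq_zero.1 (h (.inr (.inl (i, j, l, k))))]

theorem Valid.u_u : d.mul d.u d.u = d.u :=
  funext fun k => sub_eq_zero.1 (h (.inr (.inr (.inl k))))

theorem Valid.absorb (x y : Fin N → R) : d.mul d.u (d.mul x y) = d.mul x y := by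
  rw [eq_sum_bv x, eq_sum_bv y]
  simp only [map_sum, map_smul, LinearMap.sum_apply, LinearMap.smul_apply, mul_bv]
  refine Finset.sum_congr rfl fun i _ => ?_
  congr 1
  refine Finset.sum_congr rfl fun j _ => ?_
  rw [funext fun k => sub_eq_zero.1 (h (.inr (.inr (.inr (.inl (j, i, k))))))]

theorem Valid.proj_mul (x y : Fin N → R) : d.mul (d.mul d.u x) (d.mul d.u y) = d.mul x y := by
  rw [h.mul_assoc, ← h.mul_assoc x, h.mul_comm x, h.mul_assoc d.u x, h.absorb, h.absorb]

end Datum

/-- A datum satisfying the equations. -/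
structure VDatum (R : Type u) [CommRing R] (N : ℕ) where
  /-- the coordinates -/
  d : Datum R N
  /-- the equations -/
  valid : d.Valid

namespace VDatum

open Datum

/-- Base change. -/
def map {R' : Type u} [CommRing R'] (f : R →+* R') (D : VDatum R N) : VDatum R' N :=
  ⟨D.d.map f, D.valid.map D.d f⟩

variable (D : VDatum R N)

/-- The projection onto the algebra. -/
def proj : (Fin N → R) →ₗ[R] (Fin N → R) := D.d.mul D.d.u

/-- The underlying module of the algebra. -/
def sub : Submodule R (Fin N → R) := LinearMap.eqLocus D.proj LinearMap.id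

/-- The finite étale algebra. -/
abbrev E : Type u := ↥D.sub

/-- The coordinates of an element. -/
def val : D.E →ₗ[R] (Fin N → R) := D.sub.subtype

@[ext]
theorem E_ext {x y : D.E} (h : D.val x = D.val y) : x = y := Subtype.ext h

theorem proj_val (x : D.E) : D.d.mul D.d.u (D.val x) = D.val x := x.2

instance : Mul D.E := ⟨fun x y => ⟨D.d.mul (D.val x) (D.val y), D.valid.absorb _ _⟩⟩
instance : One D.E := ⟨⟨D.d.u, D.valid.u_u⟩⟩

theorem val_mul (x y : D.E) : D.val (x * y) = D.d.mul (D.val x) (D.val y) := rfl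
theorem val_one : D.val 1 = D.d.u := rfl

instance : CommRing D.E :=
  { (inferInstance : AddCommGroup ↥D.sub) with
    mul := (· * ·)
    one := 1
    mul_assoc := fun x y z => D.E_ext (by simp only [val_mul]; exact D.valid.mul_assoc _ _ _)
    mul_comm := fun x y => D.E_ext (D.valid.mul_comm _ _)
    one_mul := fun x => D.E_ext (by rw [val_mul, val_one, proj_val])
    mul_one := fun x => D.E_ext (by rw [val_mul, val_one, D.valid.mul_comm, proj_val])
    left_distrib := fun x y z => D.E_ext (by simp [val_mul])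
    right_distrib := fun x y z => D.E_ext (by simp [val_mul])
    zero_mul := fun x => D.E_ext (by simp [val_mul])
    mul_zero := fun x => D.E_ext (by simp [val_mul]) }

theorem val_smul {R₀ : Type*} [CommRing R₀] [Algebra R₀ R] (r : R₀) (x : D.E) :
    D.val (r • x) = r • D.val x := rfl

instance {R₀ : Type*} [CommRing R₀] [Algebra R₀ R] : Algebra R₀ D.E :=
  Algebra.ofModule
    (fun r x y => D.E_ext (by
      rw [val_smul, val_mul, val_mul, val_smul, ← algebraMap_smul R r, ← algebraMap_smul R r,
        map_smul, LinearMap.smul_apply]))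
    (fun r x y => D.E_ext (by
      rw [val_smul, val_mul, val_mul, val_smul, ← algebraMap_smul R r, ← algebraMap_smul R r, map_smul]))

/-- The projection. -/
def toE : (Fin N → R) →ₗ[R] D.E :=
  D.proj.codRestrict D.sub fun x => D.valid.absorb _ _

theorem val_toE (x : Fin N → R) : D.val (D.toE x) = D.d.mul D.d.u x := rfl

theorem toE_val (x : D.E) : D.toE (D.val x) = x := D.E_ext (D.proj_val x)

theorem eq_sum (x : D.E) : x = ∑ i, D.val x i • D.toE (bv i) := by
  conv_lhs => rw [← D.toE_val x, eq_sum_bv (D.val x)]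
  simp [map_sum, map_smul]

theorem toE_mul (x y : Fin N → R) : D.toE x * D.toE y = D.toE (D.d.mul x y) :=
  D.E_ext (by rw [val_mul, val_toE, val_toE, val_toE, D.valid.proj_mul, D.valid.absorb])

instance : Module.Finite R D.E := Module.Finite.of_surjective D.toE fun x => ⟨_, D.toE_val x⟩

instance : Module.Projective R D.E :=
  Module.Projective.of_split D.val D.toE (LinearMap.ext D.toE_val)

/-- Coordinates of tensors. -/
noncomputable def coord : D.E ⊗[R] D.E →ₗ[R] (Fin N → Fin N → R) :=
  TensorProduct.lift (LinearMap.mk₂ R (fun x y p q => D.val x p * D.val y q)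
    (fun _ _ _ => by funext p q; simp [map_add, add_mul]) (fun _ _ _ => by funext p q; simp [map_smul, _root_.mul_assoc])
    (fun _ _ _ => by funext p q; simp [map_add, mul_add]) (fun _ _ _ => by funext p q; simp [map_smul, mul_left_comm]))

theorem coord_tmul (x y : D.E) (p q : Fin N) : D.coord (x ⊗ₜ y) p q = D.val x p * D.val y q := by
  simp [coord]

/-- Tensors from coordinates. -/
noncomputable def tens (c : Fin N → Fin N → R) : D.E ⊗[R] D.E :=
  ∑ a, ∑ b, c a b • (D.toE (bv a) ⊗ₜ[R] D.toE (bv b))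

theorem tens_coord (z : D.E ⊗[R] D.E) : D.tens (D.coord z) = z := by
  induction z with
  | zero => simp [tens]
  | tmul x y =>
    conv_rhs => rw [D.eq_sum x, D.eq_sum y]
    simp only [tens, coord_tmul, TensorProduct.sum_tmul, TensorProduct.tmul_sum,
      TensorProduct.smul_tmul_smul]
    exact Finset.sum_comm
  | add x y hx hy =>
    rw [map_add]
    conv_rhs => rw [← hx, ← hy]
    simp [tens, add_smul, Finset.sum_add_distrib]

/-- The separability element. -/
noncomputable def sep : D.E ⊗[R] D.E := D.tens D.d.s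

theorem coord_tens (c : Fin N → Fin N → R) (p q : Fin N) : D.coord (D.tens c) p q =
    ∑ a, ∑ b, c a b * (D.d.mul D.d.u (bv a) p * D.d.mul D.d.u (bv b) q) := by
  simp [tens, map_sum, map_smul, coord_tmul, val_toE]

theorem coord_sep : D.coord D.sep = D.d.s := by
  funext p q
  rw [sep, coord_tens]
  exact sub_eq_zero.1 (D.valid (.inr (.inr (.inr (.inr (.inr (.inr (p, q))))))))

theorem lmul_sep : Algebra.TensorProduct.lmul' R D.sep = (1 : D.E) := by
  refine D.E_ext ?_
  rw [val_one, sep, tens]
  simp only [map_sum, map_smul, Algebra.TensorProduct.lmul'_apply_tmul, toE_mul, val_toE, D.valid.absorb,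
    mul_bv]
  funext k
  have := sub_eq_zero.1 (D.valid (.inr (.inr (.inr (.inr (.inl k))))))
  simp only [Finset.sum_apply, Pi.smul_apply, smul_eq_mul, map_sum, map_smul]
  rw [← this]
  refine Finset.sum_congr rfl fun a _ => Finset.sum_congr rfl fun b _ => ?_
  rw [funext fun k' => sub_eq_zero.1 (D.valid (.inr (.inr (.inr (.inl (a, b, k'))))))]

theorem sep_comm (x : D.E) : ((1 : D.E) ⊗ₜ[R] x - x ⊗ₜ[R] 1) * D.sep = 0 := by
  let l : D.E →ₗ[R] D.E ⊗[R] D.E := (LinearMap.mulRight R D.sep).comp
    ((Algebra.TensorProduct.includeRight : D.E →ₐ[R] D.E ⊗[R] D.E).toLinearMap -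
      (Algebra.TensorProduct.includeLeft : D.E →ₐ[R] D.E ⊗[R] D.E).toLinearMap)
  suffices hl : l.comp D.toE = 0 by
    have h : l (D.toE (D.val x)) = 0 := LinearMap.congr_fun hl (D.val x)
    rw [D.toE_val] at h
    exact h
  refine Datum.ext_lin fun i => ?_
  show ((1 : D.E) ⊗ₜ[R] D.toE (bv i) - D.toE (bv i) ⊗ₜ[R] 1) * D.sep = 0
  rw [← D.tens_coord (_ * D.sep)]
  suffices hc : D.coord (((1 : D.E) ⊗ₜ[R] D.toE (bv i) - D.toE (bv i) ⊗ₜ[R] 1) * D.sep) = 0 by
    rw [hc]; simp [tens]
  funext p q
  have hcalc : ∀ a b, D.val (D.toE (bv i) * D.toE (bv a)) b = D.d.μ i a b := fun a b => by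
    rw [toE_mul, val_toE, D.valid.absorb, mul_bv]
  simp only [sep, tens, sub_mul, Finset.mul_sum, mul_smul_comm, Algebra.TensorProduct.tmul_mul_tmul, one_mul,
    map_sub, map_sum, map_smul, Pi.sub_apply, Finset.sum_apply, Pi.smul_apply, smul_eq_mul, coord_tmul, hcalc,
    val_toE, Pi.zero_apply]
  have := sub_eq_zero.1 (D.valid (.inr (.inr (.inr (.inr (.inr (.inl (i, p, q))))))))
  simp only [mul_sub, Finset.sum_sub_distrib]
  rw [this, sub_self]

instance : Algebra.FormallyUnramified R D.E :=
  haveI : Algebra.EssFiniteType R D.E := inferInstance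
  Algebra.FormallyUnramified.iff_exists_tensorProduct.2 ⟨D.sep, D.sep_comm, D.lmul_sep⟩

theorem etale : Algebra.Etale R D.E := by
  have : Module.FinitePresentation R D.E := Module.finitePresentation_of_projective R D.E
  have : Algebra.FinitePresentation R D.E := Algebra.FinitePresentation.of_finitePresentation R D.E
  exact Algebra.Etale.of_formallyUnramified_of_flat

/-- Separability elements are unique. -/
theorem sep_unique {S : Type u} [CommRing S] [Algebra R S] {t t' : S ⊗[R] S}
    (h1 : ∀ x : S, ((1 : S) ⊗ₜ[R] x - x ⊗ₜ[R] 1) * t = 0) (hm : Algebra.TensorProduct.lmul' R t = (1 : S))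
    (h1' : ∀ x : S, ((1 : S) ⊗ₜ[R] x - x ⊗ₜ[R] 1) * t' = 0) (hm' : Algebra.TensorProduct.lmul' R t' = (1 : S)) :
    t = t' := by
  have key : ∀ w : S ⊗[R] S, (∀ x : S, ((1 : S) ⊗ₜ[R] x - x ⊗ₜ[R] 1) * w = 0) →
      ∀ z : S ⊗[R] S, z * w = (Algebra.TensorProduct.lmul' R z ⊗ₜ[R] 1) * w := by
    intro w hw z
    induction z with
    | zero => simp
    | tmul a b =>
      have hb : ((1 : S) ⊗ₜ[R] b) * w = (b ⊗ₜ[R] 1) * w := sub_eq_zero.1 (by rw [← sub_mul]; exact hw b)
      rw [show a ⊗ₜ[R] b = (a ⊗ₜ[R] (1 : S)) * ((1 : S) ⊗ₜ[R] b) by simp, _root_.mul_assoc, hb,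
        ← _root_.mul_assoc]
      simp
    | add a b ha hb => rw [add_mul, map_add, TensorProduct.add_tmul, add_mul, ha, hb]
  calc t = (Algebra.TensorProduct.lmul' R t' ⊗ₜ[R] 1) * t := by rw [hm', ← Algebra.TensorProduct.one_def, _root_.one_mul]
    _ = t' * t := (key t h1 t').symm
    _ = t * t' := _root_.mul_comm _ _
    _ = (Algebra.TensorProduct.lmul' R t ⊗ₜ[R] 1) * t' := key t' h1' t
    _ = t' := by rw [hm, ← Algebra.TensorProduct.one_def, _root_.one_mul]

/-- The separability coordinates are determined by the multiplication. -/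
theorem s_unique (D' : VDatum R N) (hμ : D'.d.μ = D.d.μ) (hu : D'.d.u = D.d.u) : D'.d.s = D.d.s := by
  obtain ⟨⟨μ, uu, s'⟩, hv⟩ := D'
  obtain ⟨⟨μ₀, u₀, s₀⟩, hv₀⟩ := D
  simp only at hμ hu
  subst hμ hu
  let D₁ : VDatum R N := ⟨⟨μ, uu, s'⟩, hv⟩
  let D₀ : VDatum R N := ⟨⟨μ, uu, s₀⟩, hv₀⟩
  show s' = s₀
  let e : D₁.E →ₐ[R] D₀.E :=
    { toFun := fun x => ⟨x.1, x.2⟩, map_one' := rfl, map_mul' := fun _ _ => rfl, map_zero' := rfl,
      map_add' := fun _ _ => rfl, commutes' := fun _ => rfl }
  let f := Algebra.TensorProduct.map e e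
  have hc : D₀.coord (f D₁.sep) = D₁.coord D₁.sep := by
    have : ∀ z, D₀.coord (f z) = D₁.coord z := by
      intro z
      induction z with
      | zero => simp
      | tmul x y => funext p q; simp only [f, Algebra.TensorProduct.map_tmul, coord_tmul]; rfl
      | add x y hx hy => rw [map_add, map_add, map_add, hx, hy]
    exact this _
  have : f D₁.sep = D₀.sep := sep_unique (fun x => by
      have h := congrArg f (D₁.sep_comm ⟨x.1, x.2⟩)
      simp only [f, map_mul, map_sub, map_zero, Algebra.TensorProduct.map_tmul, map_one] at h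
      exact h)
    (by
      have : ∀ z, Algebra.TensorProduct.lmul' R (f z) = e (Algebra.TensorProduct.lmul' R z) := by
        intro z
        induction z with
        | zero => simp
        | tmul x y => simp [f]
        | add x y hx hy => simp only [map_add, hx, hy]
      rw [this, D₁.lmul_sep, map_one])
    D₀.sep_comm D₀.lmul_sep
  rw [this, coord_sep, coord_sep] at hc
  exact hc.symm

end VDatum

end Groth.Misc12.ElkikFEt
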