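import Groth.Agent.Misc12.ElkikFEt.Datum

/-!
# Homomorphisms and base change in coordinates
-/

set_option autoImplicit false

universe u

namespace Groth.Misc12.ElkikFEt

open TensorProduct

variable {R : Type u} [CommRing R] {N N₁ N₂ N₃ : ℕ}

namespace VDatum

open Datum

section red

variable {R' : Type u} [CommRing R'] (f : R →+* R') (D : VDatum R N)

/-- Reduction of the algebra along a ring map. -/
def red : D.E →+* (D.map f).E where
  toFun x := ⟨f ∘ D.val x, by
    show (D.d.map f).mul (f ∘ D.d.u) (f ∘ D.val x) = f ∘ D.val x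
    rw [← map_mul', proj_val]⟩
  map_one' := rfl
  map_mul' x y := (D.map f).E_ext (D.d.map_mul' f (D.val x) (D.val y))
  map_zero' := (D.map f).E_ext (funext fun _ => map_zero f)
  map_add' x y := (D.map f).E_ext (funext fun _ => map_add f _ _)

theorem val_red (x : D.E) : (D.map f).val (D.red f x) = f ∘ D.val x := rfl

theorem red_smul (r : R) (x : D.E) : D.red f (r • x) = f r • D.red f x :=
  (D.map f).E_ext (funext fun _ => map_mul f _ _)

theorem red_algebraMap (r : R) : D.red f (algebraMap R D.E r) = algebraMap R' (D.map f).E (f r) := by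
  rw [Algebra.algebraMap_eq_smul_one, red_smul, map_one, Algebra.algebraMap_eq_smul_one]

theorem red_toE (x : Fin N → R) : D.red f (D.toE x) = (D.map f).toE (f ∘ x) :=
  (D.map f).E_ext (D.d.map_mul' f D.d.u x)

theorem red_surjective (hf : Function.Surjective f) : Function.Surjective (D.red f) := by
  intro y
  choose x hx using fun i => hf ((D.map f).val y i)
  refine ⟨D.toE x, ?_⟩
  rw [red_toE, show f ∘ x = (D.map f).val y from funext hx, toE_val]

theorem ker_red_nilpotent (hf : RingHom.ker f ^ 2 = ⊥) : IsNilpotent (RingHom.ker (D.red f)) := by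
  refine ⟨2, ?_⟩
  rw [Ideal.zero_eq_bot, eq_bot_iff, pow_two, Ideal.mul_le]
  intro x hx y hy
  rw [Ideal.mem_bot]
  refine D.E_ext (funext fun k => ?_)
  rw [val_mul, mul_apply, map_zero, Pi.zero_apply]
  refine Finset.sum_eq_zero fun i _ => Finset.sum_eq_zero fun j _ => ?_
  have hxy : D.val x i * D.val y j ∈ RingHom.ker f ^ 2 := by
    rw [pow_two]
    exact Ideal.mul_mem_mul (congrFun (congrArg (D.map f).val hx) i) (congrFun (congrArg (D.map f).val hy) j)
  rw [hf, Ideal.mem_bot] at hxy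
  rw [hxy, zero_mul]

end red

/-- The linear map of a matrix. -/
def lin (Φ : Fin N₂ → Fin N₁ → R) : (Fin N₁ → R) →ₗ[R] (Fin N₂ → R) := (Matrix.of Φ).mulVecLin

theorem lin_apply (Φ : Fin N₂ → Fin N₁ → R) (x : Fin N₁ → R) (k : Fin N₂) :
    lin Φ x k = ∑ j, Φ k j * x j := rfl

theorem lin_bv (Φ : Fin N₂ → Fin N₁ → R) (j : Fin N₁) (k : Fin N₂) : lin Φ (bv j) k = Φ k j := by
  rw [lin_apply, Finset.sum_eq_single j]
  · simp
  · intro b _ hb; simp [Pi.single_eq_of_ne hb]
  · simp

theorem map_lin {R' : Type u} [CommRing R'] (f : R →+* R') (Φ : Fin N₂ → Fin N₁ → R) (x : Fin N₁ → R) :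
    f ∘ lin Φ x = lin (fun k j => f (Φ k j)) (f ∘ x) := by
  funext k
  simp [lin_apply, map_sum]

/-- The index set of the equations of a homomorphism. -/
abbrev HomEqs (N₁ N₂ : ℕ) : Type :=
  (Fin N₁ × Fin N₂) ⊕ (Fin N₁ × Fin N₂) ⊕ Fin N₂ ⊕ (Fin N₁ × Fin N₁ × Fin N₂)

/-- The equations of a homomorphism. -/
def homDefect (d₁ : Datum R N₁) (d₂ : Datum R N₂) (Φ : Fin N₂ → Fin N₁ → R) : HomEqs N₁ N₂ → R
  | .inl (j, k) => lin Φ (d₁.mul d₁.u (bv j)) k - lin Φ (bv j) k
  | .inr (.inl (j, k)) => d₂.mul d₂.u (lin Φ (bv j)) k - lin Φ (bv j) k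
  | .inr (.inr (.inl k)) => lin Φ d₁.u k - d₂.u k
  | .inr (.inr (.inr (i, j, k))) => lin Φ (d₁.μ i j) k - d₂.mul (lin Φ (bv i)) (lin Φ (bv j)) k

theorem map_homDefect {R' : Type u} [CommRing R'] (f : R →+* R') (d₁ : Datum R N₁) (d₂ : Datum R N₂)
    (Φ : Fin N₂ → Fin N₁ → R) (e : HomEqs N₁ N₂) :
    homDefect (d₁.map f) (d₂.map f) (fun k j => f (Φ k j)) e = f (homDefect d₁ d₂ Φ e) := by
  have hl : ∀ x k, f (lin Φ x k) = lin (fun k j => f (Φ k j)) (f ∘ x) k := fun x k =>
    congrFun (map_lin f Φ x) k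
  have hm₁ : ∀ x y, f ∘ d₁.mul x y = (d₁.map f).mul (f ∘ x) (f ∘ y) := d₁.map_mul' f
  have hm₂ : ∀ x y k, f (d₂.mul x y k) = (d₂.map f).mul (f ∘ x) (f ∘ y) k := fun x y k =>
    congrFun (d₂.map_mul' f x y) k
  rcases e with ⟨j, k⟩ | ⟨j, k⟩ | k | ⟨i, j, k⟩
  · simp only [homDefect, map_sub, hl, hm₁, map_bv]
    rfl
  · simp only [homDefect, map_sub, hl, hm₂, map_lin, map_bv]
    rfl
  · simp only [homDefect, map_sub, hl]
    rfl
  · simp only [homDefect, map_sub, hl, hm₂, map_lin, map_bv]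
    rfl

variable {D₁ : VDatum R N₁} {D₂ : VDatum R N₂} {D₃ : VDatum R N₃}

/-- The homomorphism of a solution. -/
def toHom (Φ : Fin N₂ → Fin N₁ → R) (h : ∀ e, homDefect D₁.d D₂.d Φ e = 0) : D₁.E →ₐ[R] D₂.E :=
  have hmem : ∀ x, D₂.d.mul D₂.d.u (lin Φ x) = lin Φ x := fun x => LinearMap.congr_fun
    (ext_lin (f := (D₂.d.mul D₂.d.u).comp (lin Φ)) (g := lin Φ)
      fun j => funext fun k => sub_eq_zero.1 (h (.inr (.inl (j, k))))) x
  have hu : lin Φ D₁.d.u = D₂.d.u := funext fun k => sub_eq_zero.1 (h (.inr (.inr (.inl k))))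
  have hmul : ∀ x y, lin Φ (D₁.d.mul x y) = D₂.d.mul (lin Φ x) (lin Φ y) := by
    have hb : D₁.d.mul.compr₂ (lin Φ) = D₂.d.mul.compl₁₂ (lin Φ) (lin Φ) :=
      ext_lin fun i => ext_lin fun j => funext fun k => by
        rw [LinearMap.compr₂_apply, LinearMap.compl₁₂_apply, mul_bv]
        exact sub_eq_zero.1 (h (.inr (.inr (.inr (i, j, k)))))
    exact fun x y => LinearMap.congr_fun₂ hb x y
  AlgHom.ofLinearMap (LinearMap.codRestrict D₂.sub ((lin Φ).comp D₁.val) fun x => hmem _)
    (D₂.E_ext hu) (fun x y => D₂.E_ext (hmul (D₁.val x) (D₁.val y)))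

theorem val_toHom (Φ : Fin N₂ → Fin N₁ → R) (h : ∀ e, homDefect D₁.d D₂.d Φ e = 0) (x : D₁.E) :
    D₂.val (toHom Φ h x) = lin Φ (D₁.val x) := rfl

/-- The coordinates of a homomorphism. -/
def matOf (φ : D₁.E →ₐ[R] D₂.E) : Fin N₂ → Fin N₁ → R := fun k j => D₂.val (φ (D₁.toE (bv j))) k

theorem lin_matOf (φ : D₁.E →ₐ[R] D₂.E) (x : Fin N₁ → R) :
    lin (matOf φ) x = D₂.val (φ (D₁.toE x)) :=
  LinearMap.congr_fun (ext_lin (f := lin (matOf φ)) (g := D₂.val.comp (φ.toLinearMap.comp D₁.toE))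
    fun j => funext fun k => lin_bv _ j k) x

theorem homDefect_matOf (φ : D₁.E →ₐ[R] D₂.E) (e : HomEqs N₁ N₂) :
    homDefect D₁.d D₂.d (matOf φ) e = 0 := by
  rcases e with ⟨j, k⟩ | ⟨j, k⟩ | k | ⟨i, j, k⟩
  · simp only [homDefect, lin_matOf]
    rw [show D₁.toE (D₁.d.mul D₁.d.u (bv j)) = D₁.toE (bv j) from D₁.toE_val (D₁.toE (bv j)), sub_self]
  · simp only [homDefect, lin_matOf, proj_val, sub_self]
  · simp only [homDefect, lin_matOf]
    rw [show D₁.toE D₁.d.u = 1 from D₁.toE_val 1, map_one, val_one, sub_self]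
  · simp only [homDefect, lin_matOf]
    rw [← val_mul, ← map_mul, toE_mul, mul_bv, sub_self]

theorem toHom_matOf (φ : D₁.E →ₐ[R] D₂.E) : toHom (matOf φ) (homDefect_matOf φ) = φ :=
  AlgHom.ext fun x => D₂.E_ext (by rw [val_toHom, lin_matOf, toE_val])

theorem matOf_toHom (Φ : Fin N₂ → Fin N₁ → R) (h : ∀ e, homDefect D₁.d D₂.d Φ e = 0) :
    matOf (toHom Φ h) = Φ := by
  funext k j
  rw [matOf, val_toHom, val_toE, show lin Φ (D₁.d.mul D₁.d.u (bv j)) k = lin Φ (bv j) k from
    sub_eq_zero.1 (h (.inl (j, k))), lin_bv]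

theorem red_toHom {R' : Type u} [CommRing R'] (f : R →+* R') (Φ : Fin N₂ → Fin N₁ → R)
    (h : ∀ e, homDefect D₁.d D₂.d Φ e = 0)
    (h' : ∀ e, homDefect (D₁.map f).d (D₂.map f).d (fun k j => f (Φ k j)) e = 0) (x : D₁.E) :
    D₂.red f (toHom Φ h x) = toHom (fun k j => f (Φ k j)) h' (D₁.red f x) :=
  (D₂.map f).E_ext (by rw [val_red, val_toHom, val_toHom, val_red, map_lin])

theorem matOf_red {R' : Type u} [CommRing R'] (f : R →+* R') (φ : D₁.E →ₐ[R] D₂.E)
    (φ' : (D₁.map f).E →ₐ[R'] (D₂.map f).E) (h : ∀ x, D₂.red f (φ x) = φ' (D₁.red f x))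
    (k : Fin N₂) (j : Fin N₁) : f (matOf φ k j) = matOf φ' k j := by
  rw [matOf, matOf, ← map_bv f j, ← red_toE, ← h]
  rfl

section infinitesimal

variable {R' : Type u} [CommRing R'] (f : R →+* R') (hf : Function.Surjective f)
  (hf2 : RingHom.ker f ^ 2 = ⊥)
include hf2

theorem hom_ext_of_red (φ ψ : D₁.E →ₐ[R] D₂.E) (h : ∀ x, D₂.red f (φ x) = D₂.red f (ψ x)) : φ = ψ :=
  Algebra.FormallyUnramified.lift_unique_of_ringHom (D₂.red f) (D₂.ker_red_nilpotent f hf2) φ ψ
    (RingHom.ext h)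

include hf

theorem exists_lift_hom (φ' : (D₁.map f).E →ₐ[R'] (D₂.map f).E) :
    ∃ φ : D₁.E →ₐ[R] D₂.E, ∀ x, D₂.red f (φ x) = φ' (D₁.red f x) := by
  have := D₁.etale
  let e := RingHom.quotientKerEquivOfSurjective (f := D₂.red f) (D₂.red_surjective f hf)
  let g₀ : D₁.E →+* D₂.E ⧸ RingHom.ker (D₂.red f) :=
    e.symm.toRingHom.comp (φ'.toRingHom.comp (D₁.red f))
  have hg : ∀ r, g₀ (algebraMap R D₁.E r) = algebraMap R _ r := fun r => by
    show e.symm (φ' (D₁.red f (algebraMap R D₁.E r))) = _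
    rw [red_algebraMap, φ'.commutes, ← red_algebraMap]
    exact e.symm_apply_eq.2 rfl
  let g : D₁.E →ₐ[R] D₂.E ⧸ RingHom.ker (D₂.red f) := { g₀ with commutes' := hg }
  obtain ⟨φ, hφ⟩ := Algebra.FormallySmooth.exists_lift _ (D₂.ker_red_nilpotent f hf2) g
  refine ⟨φ, fun x => ?_⟩
  have h2 := congrArg e (AlgHom.congr_fun hφ x)
  simp only [AlgHom.comp_apply] at h2
  exact h2.trans (e.apply_symm_apply _)

end infinitesimal

section baseChange

variable (R' : Type u) [CommRing R'] [Algebra R R'] (D : VDatum R N)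

/-- Reduction as an algebra map. -/
def redAlg : D.E →ₐ[R] (D.map (algebraMap R R')).E where
  toRingHom := D.red (algebraMap R R')
  commutes' r := by
    show D.red (algebraMap R R') (algebraMap R D.E r) = _
    rw [red_algebraMap, Algebra.algebraMap_eq_smul_one, Algebra.algebraMap_eq_smul_one (A := (D.map _).E) r]
    refine (D.map _).E_ext ?_
    rw [val_smul, val_smul, algebraMap_smul]

/-- Base change of the algebra. -/
noncomputable def baseChangeHom : R' ⊗[R] D.E →ₐ[R'] (D.map (algebraMap R R')).E :=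
  Algebra.TensorProduct.lift (Algebra.ofId R' _) (D.redAlg R') fun _ _ => Commute.all _ _

theorem baseChangeHom_tmul (r : R') (x : D.E) :
    D.baseChangeHom R' (r ⊗ₜ x) = r • D.red (algebraMap R R') x := by
  rw [Algebra.smul_def]
  rfl

theorem baseChangeHom_bijective : Function.Bijective (D.baseChangeHom R') := by
  let D' := D.map (algebraMap R R')
  let g : (Fin N → R') →ₗ[R'] R' ⊗[R] D.E := (Pi.basisFun R' (Fin N)).constr R' fun i => 1 ⊗ₜ D.toE (bv i)
  have hg : ∀ x : D.E, g (algebraMap R R' ∘ D.val x) = 1 ⊗ₜ x := fun x => by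
    rw [show algebraMap R R' ∘ D.val x = ∑ i, algebraMap R R' (D.val x i) • bv i from
      pi_eq_sum_univ' _, map_sum]
    conv_rhs => rw [D.eq_sum x, TensorProduct.tmul_sum]
    refine Finset.sum_congr rfl fun i _ => ?_
    rw [map_smul, show g (bv i) = 1 ⊗ₜ D.toE (bv i) by
      show g (Pi.single i 1) = _
      rw [← Pi.basisFun_apply R' (Fin N) i, Module.Basis.constr_basis], algebraMap_smul, TensorProduct.tmul_smul]
  have hleft : ∀ z, g (D'.val (D.baseChangeHom R' z)) = z := by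
    intro z
    induction z with
    | zero => simp
    | tmul r x =>
      rw [baseChangeHom_tmul, map_smul, val_red, map_smul, hg, TensorProduct.smul_tmul', smul_eq_mul, _root_.mul_one]
    | add a b ha hb => rw [map_add, map_add, map_add, ha, hb]
  refine ⟨Function.LeftInverse.injective (g := fun y => g (D'.val y)) hleft, fun y => ⟨g (D'.val y), ?_⟩⟩
  have hright : (D.baseChangeHom R').toLinearMap.comp g = D'.toE := ext_lin fun i => by
    show D.baseChangeHom R' (g (Pi.single i 1)) = D'.toE (bv i)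
    rw [← Pi.basisFun_apply R' (Fin N) i, Module.Basis.constr_basis, baseChangeHom_tmul, one_smul, red_toE,
      map_bv]
  exact (LinearMap.congr_fun hright (D'.val y)).trans (D'.toE_val y)

/-- Base change of the algebra. -/
noncomputable def baseChangeEquiv : R' ⊗[R] D.E ≃ₐ[R'] (D.map (algebraMap R R')).E :=
  AlgEquiv.ofBijective _ (D.baseChangeHom_bijective R')

end baseChange

section ofAlgebra

variable (E : Type u) [CommRing E] [Algebra R E] (i : E →ₗ[R] (Fin N → R)) (p : (Fin N → R) →ₗ[R] E)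

/-- The coordinates of a tensor in the ambient free module. -/
noncomputable def coordOf : E ⊗[R] E →ₗ[R] (Fin N → Fin N → R) :=
  TensorProduct.lift (LinearMap.mk₂ R (fun x y a b => i x a * i y b)
    (fun _ _ _ => by funext a b; simp [map_add, add_mul]) (fun _ _ _ => by funext a b; simp [map_smul, _root_.mul_assoc])
    (fun _ _ _ => by funext a b; simp [map_add, mul_add]) (fun _ _ _ => by funext a b; simp [map_smul, mul_left_comm]))

/-- The coordinates of a finite étale algebra with a split embedding. -/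
noncomputable def datumOf (t : E ⊗[R] E) : Datum R N :=
  ⟨fun a b => i (p (bv a) * p (bv b)), i 1, coordOf E i t⟩

theorem mul_datumOf (t : E ⊗[R] E) (x y : Fin N → R) : (datumOf E i p t).mul x y = i (p x * p y) :=
  LinearMap.congr_fun₂ (ext_lin (f := (datumOf E i p t).mul)
    (g := ((LinearMap.mul R E).compl₁₂ p p).compr₂ i) fun a => ext_lin fun b => by
      rw [mul_bv]; rfl) x y

theorem coordOf_map (α β : E →ₗ[R] E) (hpi : ∀ x, p (i x) = x) (t : E ⊗[R] E) (a' b' : Fin N) :
    coordOf E i (TensorProduct.map α β t) a' b' =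
      ∑ a, ∑ b, coordOf E i t a b * (i (α (p (bv a))) a' * i (β (p (bv b))) b') := by
  induction t with
  | zero => simp
  | tmul x y =>
    have hlin : ∀ (γ : E →ₗ[R] E) (z : E) (c : Fin N), i (γ z) c = ∑ a, i z a * i (γ (p (bv a))) c := fun γ z c => by
      conv_lhs => rw [← hpi z, eq_sum_bv (i z)]
      simp [map_sum, map_smul]
    rw [TensorProduct.map_tmul]
    simp only [coordOf, TensorProduct.lift.tmul, LinearMap.mk₂_apply]
    rw [hlin α x a', hlin β y b', Finset.sum_mul_sum]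
    exact Finset.sum_congr rfl fun a _ => Finset.sum_congr rfl fun b _ => by ring
  | add x y hx hy => simp only [map_add, Pi.add_apply, hx, hy, add_mul, Finset.sum_add_distrib]

theorem lmul_coordOf (hpi : ∀ x, p (i x) = x) (t : E ⊗[R] E) (k : Fin N) :
    (∑ a, ∑ b, coordOf E i t a b * i (p (bv a) * p (bv b)) k) = i (Algebra.TensorProduct.lmul' R t) k := by
  induction t with
  | zero => simp
  | tmul x y =>
    rw [Algebra.TensorProduct.lmul'_apply_tmul]
    conv_rhs => rw [← hpi x, ← hpi y, ← mul_datumOf E i p 0, mul_apply]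
    exact Finset.sum_congr rfl fun a _ => Finset.sum_congr rfl fun b _ => by
      simp [coordOf, datumOf]
  | add x y hx hy => simp only [map_add, Pi.add_apply, add_mul, Finset.sum_add_distrib, hx, hy]

theorem valid_datumOf (hpi : ∀ x, p (i x) = x) (t : E ⊗[R] E)
    (h1 : ∀ x : E, ((1 : E) ⊗ₜ[R] x - x ⊗ₜ[R] 1) * t = 0) (hm : Algebra.TensorProduct.lmul' R t = (1 : E)) :
    (datumOf E i p t).Valid := by
  have hu : ∀ y, (datumOf E i p t).mul (datumOf E i p t).u y = i (p y) := fun y => by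
    rw [mul_datumOf]
    show i (p (i 1) * p y) = _
    rw [hpi, _root_.one_mul]
  intro e
  rcases e with ⟨a, b, k⟩ | ⟨a, b, c, k⟩ | k | ⟨a, b, k⟩ | k | ⟨a, p', q'⟩ | ⟨p', q'⟩ <;>
    simp only [Datum.defect, sub_eq_zero]
  · simp only [datumOf, _root_.mul_comm (p (bv a))]
  · rw [mul_datumOf, mul_datumOf]
    simp only [datumOf, hpi, _root_.mul_assoc]
  · rw [hu]; simp only [datumOf, hpi]
  · rw [hu]; simp only [datumOf, hpi]
  · exact (lmul_coordOf E i p hpi t k).trans (by rw [hm]; rfl)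
  · have hs : ∀ z : E ⊗[R] E, TensorProduct.map (LinearMap.mulLeft R (p (bv a))) LinearMap.id z =
        ((p (bv a)) ⊗ₜ[R] (1 : E)) * z ∧
        TensorProduct.map LinearMap.id (LinearMap.mulLeft R (p (bv a))) z =
        ((1 : E) ⊗ₜ[R] (p (bv a))) * z := fun z => by
      induction z with
      | zero => simp
      | tmul x y => simp
      | add x y hx hy => simp only [map_add, mul_add, hx.1, hy.1, hx.2, hy.2, and_self]
    have h := h1 (p (bv a))
    rw [sub_mul, sub_eq_zero, ← (hs t).1, ← (hs t).2] at h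
    have h' := congrFun (congrFun (congrArg (coordOf E i) h.symm) p') q'
    rw [coordOf_map E i p _ _ hpi, coordOf_map E i p _ _ hpi] at h'
    simp only [hu]
    simp only [datumOf, LinearMap.mulLeft_apply, LinearMap.id_apply] at h' ⊢
    exact h'
  · simp only [hu]
    have h := coordOf_map E i p LinearMap.id LinearMap.id hpi t p' q'
    rw [TensorProduct.map_id] at h
    exact h.symm

/-- The coordinates of a finite étale algebra, with proof. -/
noncomputable def ofAlgebra (hpi : ∀ x, p (i x) = x) (t : E ⊗[R] E)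
    (h1 : ∀ x : E, ((1 : E) ⊗ₜ[R] x - x ⊗ₜ[R] 1) * t = 0) (hm : Algebra.TensorProduct.lmul' R t = (1 : E)) :
    VDatum R N := ⟨datumOf E i p t, valid_datumOf E i p hpi t h1 hm⟩

theorem nonempty_equiv_ofAlgebra (hpi : ∀ x, p (i x) = x) (t : E ⊗[R] E)
    (h1 : ∀ x : E, ((1 : E) ⊗ₜ[R] x - x ⊗ₜ[R] 1) * t = 0) (hm : Algebra.TensorProduct.lmul' R t = (1 : E)) :
    Nonempty (E ≃ₐ[R] (ofAlgebra E i p hpi t h1 hm).E) := by
  let D := ofAlgebra E i p hpi t h1 hm
  have hproj : ∀ y, D.d.mul D.d.u y = i (p y) := fun y => by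
    show (datumOf E i p t).mul (i 1) y = _
    rw [mul_datumOf, hpi, _root_.one_mul]
  let φ : E →ₐ[R] D.E := AlgHom.ofLinearMap
    (LinearMap.codRestrict D.sub i fun x => by
      show D.d.mul D.d.u (i x) = i x
      rw [hproj, hpi])
    rfl (fun x y => D.E_ext (by
      show i (x * y) = (datumOf E i p t).mul (i x) (i y)
      rw [mul_datumOf, hpi, hpi]))
  refine ⟨AlgEquiv.ofBijective φ ⟨fun x y h => ?_, fun y => ⟨p (D.val y), D.E_ext ?_⟩⟩⟩
  · rw [← hpi x, ← hpi y]
    exact congrArg p (congrArg D.val h)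
  · show i (p (D.val y)) = D.val y
    rw [← hproj, proj_val]

/-- Every finite étale algebra has coordinates. -/
theorem exists_equiv (E : Type u) [CommRing E] [Algebra R E] [Algebra.Etale R E] [Module.Finite R E] :
    ∃ (N : ℕ) (D : VDatum R N), Nonempty (E ≃ₐ[R] D.E) := by
  obtain ⟨N, p, hp⟩ := Module.Finite.exists_fin' R E
  have : Module.FinitePresentation R E := Module.FinitePresentation.of_finite_of_finitePresentation R E
  have : Module.Projective R E := Module.Flat.projective_of_finitePresentation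
  obtain ⟨i, hi⟩ := Module.projective_lifting_property p LinearMap.id hp
  obtain ⟨t, h1, hm⟩ := Algebra.FormallyUnramified.iff_exists_tensorProduct.1
    (inferInstance : Algebra.FormallyUnramified R E)
  exact ⟨N, ofAlgebra E i p (fun x => LinearMap.congr_fun hi x) t h1 hm,
    nonempty_equiv_ofAlgebra E i p (fun x => LinearMap.congr_fun hi x) t h1 hm⟩

end ofAlgebra

end VDatum

end Groth.Misc12.ElkikFEt
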