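import Groth.Agent.Misc12.ElkikFEt.Hom
import Groth.Agent.Pi1Inv.Thickening
import Groth.Agent.Pi1FEt.SpecEquiv

/-!
# Lifting coordinates of finite étale algebras along square zero thickenings
-/

set_option autoImplicit false

universe u

namespace Groth.Misc12.ElkikFEt

open TensorProduct CategoryTheory Limits AlgebraicGeometry Opposite CommAlgCat

theorem baseChange_essSurj (R R' : Type u) [CommRing R] [CommRing R'] [Algebra R R']
    (hf : Function.Surjective (algebraMap R R')) (hnil : IsNilpotent (RingHom.ker (algebraMap R R'))) :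
    (FiniteEtale.baseChange.{u, u} R R').EssSurj := by
  let i := Spec.map (CommRingCat.ofHom (algebraMap R R'))
  have : IsClosedImmersion i := IsClosedImmersion.spec_of_surjective _ hf
  have : Surjective i := ⟨fun x => by
    have hx : RingHom.ker (algebraMap R R') ≤ x.asIdeal := fun r hr => by
      obtain ⟨n, hn⟩ := hnil
      refine x.isPrime.mem_of_pow_mem n ?_
      have := Ideal.pow_mem_pow hr n
      rw [hn, Ideal.zero_eq_bot, Ideal.mem_bot] at this
      rw [this]
      exact zero_mem _
    have hrange : x ∈ Set.range (PrimeSpectrum.comap (algebraMap R R')) := by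
      rw [range_comap_of_surjective _ _ hf]; exact hx
    exact hrange⟩
  have := Groth.Pi1Inv.isEquivalence_of_thickening i
  refine ⟨fun Y => ?_⟩
  have : ((Groth.Pi1FEt.specFun R) ⋙ FEt.restrict i).EssSurj := inferInstance
  have : ((FiniteEtale.baseChange.{u, u} R R').op ⋙ Groth.Pi1FEt.specFun R').EssSurj :=
    Functor.essSurj_of_iso (Groth.Pi1FEt.specFunPullbackIso R R').symm
  let Z := ((FiniteEtale.baseChange.{u, u} R R').op ⋙ Groth.Pi1FEt.specFun R').objPreimage
    ((Groth.Pi1FEt.specFun R').obj (op Y))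
  let eZ := ((FiniteEtale.baseChange.{u, u} R R').op ⋙ Groth.Pi1FEt.specFun R').objObjPreimageIso
    ((Groth.Pi1FEt.specFun R').obj (op Y))
  exact ⟨Z.unop, ⟨((Groth.Pi1FEt.specFun R').preimageIso eZ).unop.symm⟩⟩

namespace VDatum

open Datum

/-- Coordinates lift along square zero thickenings. -/
theorem exists_lift {R R' : Type u} [CommRing R] [CommRing R'] {N : ℕ} (f : R →+* R')
    (hf : Function.Surjective f) (hf2 : RingHom.ker f ^ 2 = ⊥) (D' : VDatum R' N) :
    ∃ D : VDatum R N, D.map f = D' := by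
  let _ : Algebra R R' := f.toAlgebra
  have := D'.etale
  have := baseChange_essSurj R R' hf ⟨2, hf2⟩
  let E₀ := (FiniteEtale.baseChange.{u, u} R R').objPreimage (FiniteEtale.of R' D'.E)
  let e : R' ⊗[R] E₀.obj ≃ₐ[R'] D'.E := CommAlgCat.algEquivOfIso ((ObjectProperty.ι _).mapIso
    ((FiniteEtale.baseChange.{u, u} R R').objObjPreimageIso (FiniteEtale.of R' D'.E)))
  have : Module.FinitePresentation R E₀.obj :=
    Module.FinitePresentation.of_finite_of_finitePresentation R E₀.obj
  have : Module.Projective R E₀.obj := Module.Flat.projective_of_finitePresentation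
  let π : E₀.obj →ₐ[R] D'.E :=
    (e.toAlgHom.restrictScalars R).comp Algebra.TensorProduct.includeRight
  have hπ : Function.Surjective π := by
    intro y
    obtain ⟨z, rfl⟩ := e.surjective y
    induction z with
    | zero => exact ⟨0, by simp⟩
    | tmul r x =>
      obtain ⟨r, rfl⟩ := hf r
      refine ⟨r • x, ?_⟩
      show e (1 ⊗ₜ (r • x)) = e (f r ⊗ₜ x)
      rw [← TensorProduct.smul_tmul, Algebra.smul_def, mul_one]
      rfl
    | add a b ha hb =>
      obtain ⟨a', ha⟩ := ha; obtain ⟨b', hb⟩ := hb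
      exact ⟨a' + b', by rw [map_add, ha, hb, map_add]⟩
  have hker : ∀ z, π z = 0 → z ∈ RingHom.ker f • (⊤ : Submodule R E₀.obj) := by
    intro z hz
    have h0 : (1 : R') ⊗ₜ[R] z = 0 := e.injective (hz.trans (map_zero e).symm)
    let g := (RingHom.ker f : Submodule R R).subtype
    have hex : Function.Exact g (Algebra.linearMap R R') := fun r => by
      simp only [g, Submodule.range_subtype, Set.mem_range, Subtype.exists, Submodule.coe_subtype]
      exact ⟨fun h => ⟨r, h, rfl⟩, by rintro ⟨a, ha, rfl⟩; exact ha⟩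
    have h1 : ((Algebra.linearMap R R').rTensor E₀.obj) ((1 : R) ⊗ₜ[R] z) = 0 := by
      rw [LinearMap.rTensor_tmul, Algebra.linearMap_apply, map_one, h0]
    obtain ⟨w, hw⟩ := (rTensor_exact (E₀.obj) hex hf _).1 h1
    rw [show z = TensorProduct.lid R E₀.obj ((1 : R) ⊗ₜ[R] z) by simp, ← hw]
    clear hw
    induction w with
    | zero => simp
    | tmul a b =>
      rw [LinearMap.rTensor_tmul, TensorProduct.lid_tmul]
      exact Submodule.smul_mem_smul a.2 Submodule.mem_top
    | add a b ha hb => rw [map_add, map_add]; exact Submodule.add_mem _ ha hb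
  let post : (Fin N → R) →ₗ[R] (Fin N → R') := (Algebra.linearMap R R').compLeft (Fin N)
  have hpost : Function.Surjective post := fun y => by
    choose x hx using fun j => hf (y j)
    exact ⟨x, funext hx⟩
  obtain ⟨i, hi⟩ := Module.projective_lifting_property post
    ((D'.val.restrictScalars R).comp π.toLinearMap) hpost
  have hi' : ∀ x, f ∘ i x = D'.val (π x) := fun x => LinearMap.congr_fun hi x
  choose z hz using fun a => hπ (D'.toE (bv a))
  let p₀ : (Fin N → R) →ₗ[R] E₀.obj := (Pi.basisFun R (Fin N)).constr R z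
  have hp₀ : ∀ y, π (p₀ y) = D'.toE (f ∘ y) := by
    have h : π.toLinearMap.comp p₀ = (D'.toE.restrictScalars R).comp post := ext_lin fun a => by
      show π (p₀ (Pi.single a 1)) = D'.toE (f ∘ bv a)
      rw [← Pi.basisFun_apply R (Fin N) a, Module.Basis.constr_basis, hz, map_bv]
    exact fun y => LinearMap.congr_fun h y
  let ν : E₀.obj →ₗ[R] E₀.obj := LinearMap.id - p₀.comp i
  have hν : ∀ x, ν x ∈ RingHom.ker f • (⊤ : Submodule R E₀.obj) := fun x => hker _ (by
    show π (x - p₀ (i x)) = 0
    rw [map_sub, hp₀, hi', toE_val, sub_self])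
  have hνν : ∀ x, ν (ν x) = 0 := by
    have hmul : ∀ (a : R) (y : E₀.obj), a ∈ RingHom.ker f → y ∈ RingHom.ker f • (⊤ : Submodule R E₀.obj) →
        a • y = 0 := fun a y ha hy => by
      refine Submodule.smul_induction_on hy (fun b hb w _ => ?_) fun u v hu hv => by rw [smul_add, hu, hv, add_zero]
      have : a * b ∈ RingHom.ker f ^ 2 := by rw [pow_two]; exact Ideal.mul_mem_mul ha hb
      rw [hf2, Ideal.mem_bot] at this
      rw [smul_smul, this, zero_smul]
    intro x
    refine Submodule.smul_induction_on (hν x) (fun b hb w _ => ?_) fun u v hu hv => by rw [map_add, hu, hv, add_zero]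
    rw [map_smul]
    exact hmul b _ hb (hν w)
  let p : (Fin N → R) →ₗ[R] E₀.obj := p₀ + ν.comp p₀
  have hpi : ∀ x, p (i x) = x := fun x => by
    have h1 : p₀ (i x) = x - ν x := by simp [ν]
    show p₀ (i x) + ν (p₀ (i x)) = x
    rw [h1, map_sub, hνν, sub_zero, sub_add_cancel]
  have hπp : ∀ y, π (p y) = D'.toE (f ∘ y) := fun y => by
    show π (p₀ y + ν (p₀ y)) = _
    rw [map_add, hp₀]
    show D'.toE (f ∘ y) + π (p₀ y - p₀ (i (p₀ y))) = _
    rw [map_sub, hp₀, hp₀, hi', toE_val, hp₀, sub_self, add_zero]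
  obtain ⟨t, h1, hm⟩ := Algebra.FormallyUnramified.iff_exists_tensorProduct.1
    (inferInstance : Algebra.FormallyUnramified R E₀.obj)
  let D := ofAlgebra E₀.obj i p hpi t h1 hm
  have hμ : (D.map f).d.μ = D'.d.μ := by
    funext a b
    show f ∘ i (p (bv a) * p (bv b)) = _
    rw [hi', map_mul, hπp, hπp, map_bv, map_bv, toE_mul, val_toE, D'.valid.absorb, mul_bv]
  have hu : (D.map f).d.u = D'.d.u := by
    show f ∘ i 1 = _
    rw [hi', map_one, val_one]
  have hs := s_unique D' (D.map f) hμ hu
  refine ⟨D, ?_⟩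
  have hd : (D.map f).d = D'.d := Datum.ext hμ hu hs
  cases hDD : D.map f
  cases D'
  rw [hDD] at hd
  cases hd
  rfl

end VDatum

end Groth.Misc12.ElkikFEt
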