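import Groth.Agent.Misc12.ElkikFEt.Sys
import Groth.Agent.Misc12.ElkikFEt.Lift

/-!
# Smooth schemes of coordinates, homomorphisms and isomorphisms
-/

set_option autoImplicit false

universe u

namespace Groth.Misc12.ElkikFEt

open MvPolynomial VDatum

variable {S : Type u} [CommRing S] {N N₁ N₂ : ℕ}

section data

/-- The coordinates of a datum. -/
abbrev DIdx (N : ℕ) : Type := (Fin N × Fin N × Fin N) ⊕ Fin N ⊕ (Fin N × Fin N)

/-- A datum from coordinates. -/
def toD {R : Type u} (x : DIdx N → R) : Datum R N :=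
  ⟨fun i j k => x (.inl (i, j, k)), fun i => x (.inr (.inl i)), fun a b => x (.inr (.inr (a, b)))⟩

/-- The coordinates. -/
def ofD {R : Type u} (d : Datum R N) : DIdx N → R
  | .inl (i, j, k) => d.μ i j k
  | .inr (.inl i) => d.u i
  | .inr (.inr (a, b)) => d.s a b

theorem toD_ofD {R : Type u} (d : Datum R N) : toD (ofD d) = d := rfl

theorem toD_map {R R' : Type u} (f : R → R') (x : DIdx N → R) : (toD x).map f = toD (f ∘ x) := rfl

variable (S N)

/-- The equations. -/
noncomputable def dataPoly (e : Datum.Eqs N) : MvPolynomial (DIdx N) S := (toD X).defect e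

/-- The coordinate ring of data. -/
abbrev DataRing : Type u := Sys (dataPoly S N)

variable {S N}

theorem aeval_dataPoly {R : Type u} [CommRing R] [Algebra S R] (x : DIdx N → R) (e : Datum.Eqs N) :
    aeval x (dataPoly S N e) = (toD x).defect e := by
  show (aeval x : MvPolynomial (DIdx N) S →ₐ[S] R).toRingHom ((toD X).defect e) = _
  rw [← Datum.map_defect, toD_map]
  congr 2
  funext i
  exact aeval_X x i

/-- The universal datum. -/
noncomputable def univD : VDatum (DataRing S N) N :=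
  ⟨toD (Sys.gen (dataPoly S N)), fun e => by
    rw [← aeval_dataPoly (S := S)]
    exact Sys.aeval_gen_eq_zero (AlgHom.id S _) e⟩

/-- The point of a datum. -/
noncomputable def dataPt {R : Type u} [CommRing R] [Algebra S R] (D : VDatum R N) : DataRing S N →ₐ[S] R :=
  Sys.pt (ofD D.d) fun e => by rw [aeval_dataPoly, toD_ofD]; exact D.valid e

theorem vdatum_ext {R : Type u} [CommRing R] {D D' : VDatum R N} (h : D.d = D'.d) : D = D' := by
  cases D; cases D'; cases h; rfl

theorem univD_map_dataPt {R : Type u} [CommRing R] [Algebra S R] (D : VDatum R N) :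
    (univD (S := S) (N := N)).map (dataPt (S := S) D).toRingHom = D := by
  refine vdatum_ext ?_
  show (toD (Sys.gen (dataPoly S N))).map _ = D.d
  rw [toD_map, ← toD_ofD D.d]
  congr 1
  funext i
  exact Sys.pt_gen _ _ i

variable (S N)

theorem smooth_data : Algebra.Smooth S (DataRing S N) :=
  Sys.smooth _ fun R _ _ I hI x hx => by
    let D' : VDatum (R ⧸ I) N := ⟨toD x, fun e => by rw [← aeval_dataPoly (S := S)]; exact hx e⟩
    obtain ⟨D, hD⟩ := VDatum.exists_lift (Ideal.Quotient.mk I) Ideal.Quotient.mk_surjective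
      (by rw [Ideal.mk_ker]; exact hI) D'
    refine ⟨ofD D.d, fun e => by rw [aeval_dataPoly, toD_ofD]; exact D.valid e, fun i => ?_⟩
    have h := congrArg (fun E : VDatum (R ⧸ I) N => ofD E.d i) hD
    rcases i with ⟨a, b, c⟩ | a | ⟨a, b⟩ <;> exact h

end data

section hom

variable (D₁ : VDatum S N₁) (D₂ : VDatum S N₂)

/-- The equations of homomorphisms. -/
noncomputable def homPoly (e : HomEqs N₁ N₂) : MvPolynomial (Fin N₂ × Fin N₁) S :=
  homDefect (D₁.d.map C) (D₂.d.map C) (fun k j => X (k, j)) e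

/-- The coordinate ring of homomorphisms. -/
abbrev HomRing : Type u := Sys (homPoly D₁ D₂)

theorem datum_map_map {R R' R'' : Type u} (f : R → R') (g : R' → R'') (d : Datum R N) :
    (d.map f).map g = d.map (g ∘ f) := rfl

theorem aeval_C_comp {σ : Type} {R : Type u} [CommRing R] [Algebra S R] (x : σ → R) :
    ⇑(aeval x : MvPolynomial σ S →ₐ[S] R).toRingHom ∘ ⇑(C : S →+* MvPolynomial σ S) = algebraMap S R :=
  funext fun s => aeval_C x s

theorem aeval_homPoly {R : Type u} [CommRing R] [Algebra S R] (x : Fin N₂ × Fin N₁ → R) (e : HomEqs N₁ N₂) :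
    aeval x (homPoly D₁ D₂ e) =
      homDefect (D₁.map (algebraMap S R)).d (D₂.map (algebraMap S R)).d (fun k j => x (k, j)) e := by
  show (aeval x : MvPolynomial _ S →ₐ[S] R).toRingHom (homDefect _ _ _ e) = _
  rw [← map_homDefect, datum_map_map, datum_map_map, aeval_C_comp]
  congr 1
  funext k j
  exact aeval_X x (k, j)

/-- The homomorphism at a point. -/
noncomputable def homOfPt {R : Type u} [CommRing R] [Algebra S R] (x : Fin N₂ × Fin N₁ → R)
    (h : ∀ e, aeval x (homPoly D₁ D₂ e) = 0) :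
    (D₁.map (algebraMap S R)).E →ₐ[R] (D₂.map (algebraMap S R)).E :=
  VDatum.toHom (fun k j => x (k, j)) fun e => by rw [← aeval_homPoly]; exact h e

/-- The point of a homomorphism. -/
noncomputable def homPt {R : Type u} [CommRing R] [Algebra S R]
    (φ : (D₁.map (algebraMap S R)).E →ₐ[R] (D₂.map (algebraMap S R)).E) : HomRing D₁ D₂ →ₐ[S] R :=
  Sys.pt (fun p => VDatum.matOf φ p.1 p.2) fun e => by rw [aeval_homPoly]; exact VDatum.homDefect_matOf φ e

theorem homPt_gen {R : Type u} [CommRing R] [Algebra S R]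
    (φ : (D₁.map (algebraMap S R)).E →ₐ[R] (D₂.map (algebraMap S R)).E) (p : Fin N₂ × Fin N₁) :
    homPt D₁ D₂ φ (Sys.gen _ p) = VDatum.matOf φ p.1 p.2 := Sys.pt_gen _ _ p

theorem map_algebraMap_quot {R : Type u} [CommRing R] [Algebra S R] (I : Ideal R) (D : VDatum S N) :
    (D.map (algebraMap S R)).map (Ideal.Quotient.mk I) = D.map (algebraMap S (R ⧸ I)) := rfl

theorem smooth_hom : Algebra.Smooth S (HomRing D₁ D₂) :=
  Sys.smooth _ fun R _ _ I hI x hx => by
    obtain ⟨φ, hφ⟩ := VDatum.exists_lift_hom (D₁ := D₁.map (algebraMap S R)) (D₂ := D₂.map (algebraMap S R))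
      (Ideal.Quotient.mk I) Ideal.Quotient.mk_surjective (by rw [Ideal.mk_ker]; exact hI)
      (homOfPt D₁ D₂ x hx)
    refine ⟨fun p => VDatum.matOf φ p.1 p.2, fun e => by rw [aeval_homPoly]; exact VDatum.homDefect_matOf φ e,
      fun p => ?_⟩
    rw [VDatum.matOf_red (Ideal.Quotient.mk I) φ _ hφ]
    exact congrFun (congrFun (VDatum.matOf_toHom (D₁ := D₁.map (algebraMap S (R ⧸ I)))
      (D₂ := D₂.map (algebraMap S (R ⧸ I))) (fun k j => x (k, j)) _) p.1) p.2

theorem unramified_hom : Algebra.FormallyUnramified S (HomRing D₁ D₂) := by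
  refine Algebra.FormallyUnramified.iff_comp_injective.2 fun R _ _ I hI f g hfg => Sys.hom_ext fun p => ?_
  have key : ∀ h : HomRing D₁ D₂ →ₐ[S] R, ∀ e, aeval (fun p => h (Sys.gen _ p)) (homPoly D₁ D₂ e) = 0 :=
    fun h => Sys.aeval_gen_eq_zero h
  have hq : ∀ k j, Ideal.Quotient.mk I (f (Sys.gen _ (k, j))) = Ideal.Quotient.mk I (g (Sys.gen _ (k, j))) :=
    fun k j => AlgHom.congr_fun hfg (Sys.gen _ (k, j))
  have heq : homOfPt D₁ D₂ _ (key f) = homOfPt D₁ D₂ _ (key g) := by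
    refine VDatum.hom_ext_of_red (Ideal.Quotient.mk I) (by rw [Ideal.mk_ker]; exact hI) _ _ fun x => ?_
    refine VDatum.E_ext _ ?_
    rw [VDatum.val_red, VDatum.val_red, homOfPt, homOfPt, VDatum.val_toHom, VDatum.val_toHom,
      VDatum.map_lin, VDatum.map_lin]
    simp only [hq]
  have h1 := congrArg (fun φ => VDatum.matOf φ p.1 p.2) heq
  simp only [homOfPt, VDatum.matOf_toHom] at h1
  exact h1

end hom

section iso

variable (D₁ : VDatum S N₁) (D₂ : VDatum S N₂)

/-- The coordinates of an isomorphism. -/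
abbrev IsoIdx (N₁ N₂ : ℕ) : Type := (Fin N₂ × Fin N₁) ⊕ (Fin N₁ × Fin N₂)

/-- The index set of the equations of an isomorphism. -/
abbrev IsoEqs (N₁ N₂ : ℕ) : Type :=
  HomEqs N₁ N₂ ⊕ HomEqs N₂ N₁ ⊕ (Fin N₁ × Fin N₁) ⊕ (Fin N₂ × Fin N₂)

/-- The equation of a composition being the identity. -/
def compDefect {R : Type u} [CommRing R] (d₁ : Datum R N₁) (Φ : Fin N₂ → Fin N₁ → R)
    (Ψ : Fin N₁ → Fin N₂ → R) (p : Fin N₁ × Fin N₁) : R :=
  lin Ψ (lin Φ (d₁.mul d₁.u (Datum.bv p.2))) p.1 - d₁.mul d₁.u (Datum.bv p.2) p.1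

theorem map_compDefect {R R' : Type u} [CommRing R] [CommRing R'] (f : R →+* R') (d₁ : Datum R N₁)
    (Φ : Fin N₂ → Fin N₁ → R) (Ψ : Fin N₁ → Fin N₂ → R) (p : Fin N₁ × Fin N₁) :
    compDefect (d₁.map f) (fun k j => f (Φ k j)) (fun j k => f (Ψ j k)) p = f (compDefect d₁ Φ Ψ p) := by
  have h1 : f ∘ d₁.mul d₁.u (Datum.bv p.2) = (d₁.map f).mul (d₁.map f).u (Datum.bv p.2) := by
    rw [Datum.map_mul', Datum.map_bv]; rfl
  simp only [compDefect, map_sub]
  rw [← h1, ← map_lin, ← map_lin]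
  rfl

/-- The defects of an isomorphism. -/
def isoDefect {R : Type u} [CommRing R] (d₁ : Datum R N₁) (d₂ : Datum R N₂) (x : IsoIdx N₁ N₂ → R) :
    IsoEqs N₁ N₂ → R
  | .inl e => homDefect d₁ d₂ (fun k j => x (.inl (k, j))) e
  | .inr (.inl e) => homDefect d₂ d₁ (fun j k => x (.inr (j, k))) e
  | .inr (.inr (.inl p)) => compDefect d₁ (fun k j => x (.inl (k, j))) (fun j k => x (.inr (j, k))) p
  | .inr (.inr (.inr p)) => compDefect d₂ (fun j k => x (.inr (j, k))) (fun k j => x (.inl (k, j))) p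

/-- The equations of isomorphisms. -/
noncomputable def isoPoly (e : IsoEqs N₁ N₂) : MvPolynomial (IsoIdx N₁ N₂) S :=
  isoDefect (D₁.d.map C) (D₂.d.map C) X e

/-- The coordinate ring of isomorphisms. -/
abbrev IsoRing : Type u := Sys (isoPoly D₁ D₂)

theorem aeval_isoPoly {R : Type u} [CommRing R] [Algebra S R] (x : IsoIdx N₁ N₂ → R) (e : IsoEqs N₁ N₂) :
    aeval x (isoPoly D₁ D₂ e) =
      isoDefect (D₁.map (algebraMap S R)).d (D₂.map (algebraMap S R)).d x e := by
  have hx : ∀ i, (aeval x : MvPolynomial _ S →ₐ[S] R).toRingHom (X i) = x i := fun i => aeval_X x i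
  show (aeval x : MvPolynomial _ S →ₐ[S] R).toRingHom (isoDefect _ _ _ e) = _
  rcases e with e | e | p | p
  · simp only [isoDefect]
    rw [← map_homDefect, datum_map_map, datum_map_map, aeval_C_comp]
    simp only [hx]
    rfl
  · simp only [isoDefect]
    rw [← map_homDefect, datum_map_map, datum_map_map, aeval_C_comp]
    simp only [hx]
    rfl
  · simp only [isoDefect]
    rw [← map_compDefect, datum_map_map, aeval_C_comp]
    simp only [hx]
    rfl
  · simp only [isoDefect]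
    rw [← map_compDefect, datum_map_map, aeval_C_comp]
    simp only [hx]
    rfl

theorem comp_apply_of_compDefect {R : Type u} [CommRing R] {E₁ : VDatum R N₁} {E₂ : VDatum R N₂}
    (Φ : Fin N₂ → Fin N₁ → R) (Ψ : Fin N₁ → Fin N₂ → R) (h : ∀ e, homDefect E₁.d E₂.d Φ e = 0)
    (h' : ∀ e, homDefect E₂.d E₁.d Ψ e = 0) (hc : ∀ p, compDefect E₁.d Φ Ψ p = 0) (x : E₁.E) :
    toHom Ψ h' (toHom Φ h x) = x := by
  refine E₁.E_ext ?_
  rw [val_toHom, val_toHom]
  have hl : ((lin Ψ).comp (lin Φ)).comp (E₁.d.mul E₁.d.u) = E₁.d.mul E₁.d.u :=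
    Datum.ext_lin fun j => funext fun k => sub_eq_zero.1 (hc (k, j))
  have := LinearMap.congr_fun hl (E₁.val x)
  simp only [LinearMap.comp_apply, proj_val] at this
  exact this

/-- The isomorphism at a point. -/
noncomputable def isoOfPt {R : Type u} [CommRing R] {E₁ : VDatum R N₁} {E₂ : VDatum R N₂}
    (x : IsoIdx N₁ N₂ → R) (h : ∀ e, isoDefect E₁.d E₂.d x e = 0) : E₁.E ≃ₐ[R] E₂.E :=
  AlgEquiv.ofAlgHom (toHom (fun k j => x (.inl (k, j))) fun e => h (.inl e))
    (toHom (fun j k => x (.inr (j, k))) fun e => h (.inr (.inl e)))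
    (AlgHom.ext fun y => comp_apply_of_compDefect _ _ (fun e => h (.inr (.inl e))) (fun e => h (.inl e))
      (fun p => h (.inr (.inr (.inr p)))) y)
    (AlgHom.ext fun y => comp_apply_of_compDefect _ _ (fun e => h (.inl e)) (fun e => h (.inr (.inl e)))
      (fun p => h (.inr (.inr (.inl p)))) y)

/-- The coordinates of a pair of mutually inverse homomorphisms. -/
def isoCoord {R : Type u} [CommRing R] {E₁ : VDatum R N₁} {E₂ : VDatum R N₂} (φ : E₁.E →ₐ[R] E₂.E)
    (ψ : E₂.E →ₐ[R] E₁.E) : IsoIdx N₁ N₂ → R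
  | .inl p => matOf φ p.1 p.2
  | .inr p => matOf ψ p.1 p.2

theorem isoDefect_isoCoord {R : Type u} [CommRing R] {E₁ : VDatum R N₁} {E₂ : VDatum R N₂}
    (φ : E₁.E →ₐ[R] E₂.E) (ψ : E₂.E →ₐ[R] E₁.E) (h₁ : ∀ y, ψ (φ y) = y) (h₂ : ∀ y, φ (ψ y) = y)
    (e : IsoEqs N₁ N₂) : isoDefect E₁.d E₂.d (isoCoord φ ψ) e = 0 := by
  rcases e with e | e | p | p
  · exact homDefect_matOf φ e
  · exact homDefect_matOf ψ e
  · show lin (matOf ψ) (lin (matOf φ) (E₁.d.mul E₁.d.u (Datum.bv p.2))) p.1 - _ = 0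
    rw [lin_matOf, lin_matOf, toE_val, h₁, ← val_toE, toE_val, val_toE, sub_self]
  · show lin (matOf φ) (lin (matOf ψ) (E₂.d.mul E₂.d.u (Datum.bv p.2))) p.1 - _ = 0
    rw [lin_matOf, lin_matOf, toE_val, h₂, ← val_toE, toE_val, val_toE, sub_self]

/-- The point of an isomorphism. -/
noncomputable def isoPt {R : Type u} [CommRing R] [Algebra S R]
    (φ : (D₁.map (algebraMap S R)).E ≃ₐ[R] (D₂.map (algebraMap S R)).E) : IsoRing D₁ D₂ →ₐ[S] R :=
  Sys.pt (isoCoord φ.toAlgHom φ.symm.toAlgHom) fun e => by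
    rw [aeval_isoPoly]
    exact isoDefect_isoCoord _ _ (fun y => φ.symm_apply_apply y) (fun y => φ.apply_symm_apply y) e

theorem smooth_iso : Algebra.Smooth S (IsoRing D₁ D₂) :=
  Sys.smooth _ fun R _ _ I hI x hx => by
    have hx' : ∀ e, isoDefect (D₁.map (algebraMap S (R ⧸ I))).d (D₂.map (algebraMap S (R ⧸ I))).d x e = 0 :=
      fun e => by rw [← aeval_isoPoly]; exact hx e
    have hker : RingHom.ker (Ideal.Quotient.mk I) ^ 2 = ⊥ := by rw [Ideal.mk_ker]; exact hI
    let e₀ := isoOfPt x hx'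
    obtain ⟨φ, hφ⟩ := VDatum.exists_lift_hom (D₁ := D₁.map (algebraMap S R)) (D₂ := D₂.map (algebraMap S R))
      (Ideal.Quotient.mk I) Ideal.Quotient.mk_surjective hker e₀.toAlgHom
    obtain ⟨ψ, hψ⟩ := VDatum.exists_lift_hom (D₁ := D₂.map (algebraMap S R)) (D₂ := D₁.map (algebraMap S R))
      (Ideal.Quotient.mk I) Ideal.Quotient.mk_surjective hker e₀.symm.toAlgHom
    have h₁ : ψ.comp φ = AlgHom.id R _ := VDatum.hom_ext_of_red (Ideal.Quotient.mk I) hker _ _ fun y => by
      rw [AlgHom.comp_apply, hψ, hφ]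
      exact e₀.symm_apply_apply _
    have h₂ : φ.comp ψ = AlgHom.id R _ := VDatum.hom_ext_of_red (Ideal.Quotient.mk I) hker _ _ fun y => by
      rw [AlgHom.comp_apply, hφ, hψ]
      exact e₀.apply_symm_apply _
    refine ⟨isoCoord φ ψ, fun e => by
      rw [aeval_isoPoly]
      exact isoDefect_isoCoord _ _ (fun y => AlgHom.congr_fun h₁ y) (fun y => AlgHom.congr_fun h₂ y) e,
      fun p => ?_⟩
    rcases p with p | p
    · show Ideal.Quotient.mk I (matOf φ p.1 p.2) = x (Sum.inl (p.1, p.2))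
      rw [VDatum.matOf_red (Ideal.Quotient.mk I) φ _ hφ]
      exact congrFun (congrFun (VDatum.matOf_toHom (D₁ := D₁.map (algebraMap S (R ⧸ I)))
        (D₂ := D₂.map (algebraMap S (R ⧸ I))) (fun k j => x (.inl (k, j))) fun e => hx' (.inl e)) p.1) p.2
    · show Ideal.Quotient.mk I (matOf ψ p.1 p.2) = x (Sum.inr (p.1, p.2))
      rw [VDatum.matOf_red (Ideal.Quotient.mk I) ψ _ hψ]
      exact congrFun (congrFun (VDatum.matOf_toHom (D₁ := D₂.map (algebraMap S (R ⧸ I)))
        (D₂ := D₁.map (algebraMap S (R ⧸ I))) (fun j k => x (.inr (j, k))) fun e => hx' (.inr (.inl e))) p.1) p.2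

end iso

end Groth.Misc12.ElkikFEt
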