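import Groth.Agent.Misc12.ElkikFEt.Points
import Groth.Agent.Misc12.ElkikFEt.Cont
import Groth.Agent.Misc12.ElkikFEt.Systems

/-!
# Finite étale algebras along `A[1/t] → A'[1/t]`
-/

set_option autoImplicit false

universe u

namespace Groth.Misc12.ElkikFEt

open MvPolynomial TensorProduct CategoryTheory AlgebraicGeometry Opposite CommAlgCat

/-- Equal data have isomorphic algebras. -/
def congrEquiv {R : Type u} [CommRing R] {N : ℕ} {D D' : VDatum R N} (h : D = D') : D.E ≃ₐ[R] D'.E :=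
  h ▸ AlgEquiv.refl

variable {A A' : Type u} [CommRing A] [CommRing A'] (φ : A →+* A') (t : A)
  [Algebra (Localization.Away t) (Localization.Away (φ t))]

theorem awayMap_algebraMap
    (halg : algebraMap (Localization.Away t) (Localization.Away (φ t)) = Localization.awayMap φ t) (a : A) :
    algebraMap (Localization.Away t) (Localization.Away (φ t)) (algebraMap A _ a) =
      algebraMap A' (Localization.Away (φ t)) (φ a) := by
  simp [halg, Localization.awayMap, IsLocalization.Away.map, IsLocalization.map_eq]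

variable [HenselianRing A (Ideal.span {t})] (hiso : Groth.Calg7.IdemAway.IsoModPowers φ t)
  {N₀ : ℕ} (hN₀ : ∀ a : A, (∃ m : ℕ, t ^ m * a = 0) → t ^ N₀ * a = 0)
  (halg : algebraMap (Localization.Away t) (Localization.Away (φ t)) = Localization.awayMap φ t)
include hiso hN₀ halg

/-- Every finite étale algebra over `A'[1/t]` descends. -/
theorem exists_descent [HenselianRing A' (Ideal.span {φ t})]
    {N₁ : ℕ} (hN₁ : ∀ a : A', (∃ m : ℕ, φ t ^ m * a = 0) → φ t ^ N₁ * a = 0)
    {N : ℕ} (D' : VDatum (Localization.Away (φ t)) N) :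
    ∃ D : VDatum (Localization.Away t) N,
      Nonempty ((D.map (algebraMap _ (Localization.Away (φ t)))).E ≃ₐ[Localization.Away (φ t)] D'.E) := by
  classical
  let L := Localization.Away t
  let L' := Localization.Away (φ t)
  let M := DataRing L' N
  let σ₀ : M →ₐ[L'] L' := dataPt D'
  let D₁ : VDatum M N := univD
  let D₂ : VDatum M N := D'.map (algebraMap L' M)
  let _ : Algebra M L' := σ₀.toRingHom.toAlgebra
  have e₁ : D₁.map (algebraMap M L') = D' := univD_map_dataPt D'
  have e₂ : D₂.map (algebraMap M L') = D' := vdatum_ext (by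
    show (D'.d.map _).map _ = D'.d
    rw [datum_map_map]
    have : ⇑(algebraMap M L') ∘ ⇑(algebraMap L' M) = id := funext fun l => σ₀.commutes l
    rw [this]
    rfl)
  have := smooth_iso D₁ D₂
  let q₀ : IsoRing D₁ D₂ →ₐ[M] L' := isoPt D₁ D₂ (congrEquiv (e₁.trans e₂.symm))
  obtain ⟨S, n, hS⟩ := exists_point_param (φ t) N₁ hN₁ σ₀ q₀.toRingHom
    (RingHom.ext fun m => q₀.commutes m)
  choose q hq using fun x : M => Ideal.Quotient.mk_surjective x
  choose k hk using fun x : M => Small.exists_eval (s := φ t) (ofD D'.d) (q x)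
  have := smooth_data L N
  let σ : DataRing L N →ₐ[L] L' := dataPt D'
  obtain ⟨τ, hτ⟩ := exists_point φ t hiso N₀ hN₀ (algebraMap L L') (awayMap_algebraMap φ t halg) σ.toRingHom
    (RingHom.ext fun l => σ.commutes l) (Finset.univ.image (Sys.gen (dataPoly L N))) (n + S.sup k)
  let D : VDatum L N := (univD (S := L)).map τ.toRingHom
  let D'' : VDatum L' N := D.map (algebraMap L L')
  have hclose : ∀ i, Small (φ t) (n + S.sup k) (ofD D''.d i - ofD D'.d i) := fun i => by
    obtain ⟨a, ha⟩ := hτ _ (Finset.mem_image_of_mem _ (Finset.mem_univ i))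
    refine ⟨-a, ?_⟩
    rw [mul_neg, map_neg, ← ha, show ofD D'.d i = σ (Sys.gen _ i) from (Sys.pt_gen _ _ i).symm,
      show ofD D''.d i = algebraMap L L' (τ (Sys.gen _ i)) by rcases i with ⟨a, b, c⟩ | a | ⟨a, b⟩ <;> rfl]
    exact (neg_sub _ _).symm
  let σ₁ : M →ₐ[L'] L' := dataPt D''
  obtain ⟨q₁, hq₁⟩ := hS σ₁ fun x hx => by
    have e : ∀ (E : VDatum L' N), dataPt (S := L') E x = eval (ofD E.d) (q x) := fun E => by
      conv_lhs => rw [← hq x]
      exact congrArg (fun f : MvPolynomial (DIdx N) L' →+* L' => f (q x)) (show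
        (aeval (ofD E.d) : MvPolynomial (DIdx N) L' →ₐ[L'] L').toRingHom = eval (ofD E.d) from
        MvPolynomial.ringHom_ext (fun l => by simp) (fun i => by simp))
    show Small (φ t) n (dataPt D'' x - dataPt D' x)
    rw [e, e]
    exact hk x n _ fun i => (hclose i).mono (by have := Finset.le_sup (f := k) hx; omega)
  refine ⟨D, ?_⟩
  let _ : Algebra M L' := σ₁.toRingHom.toAlgebra
  let q₂ : IsoRing D₁ D₂ →ₐ[M] L' := { q₁ with commutes' := fun m => RingHom.congr_fun hq₁ m }
  have f₁ : D₁.map (algebraMap M L') = D'' := univD_map_dataPt D''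
  have f₂ : D₂.map (algebraMap M L') = D' := vdatum_ext (by
    show (D'.d.map _).map _ = D'.d
    rw [datum_map_map]
    have : ⇑(algebraMap M L') ∘ ⇑(algebraMap L' M) = id := funext fun l => σ₁.commutes l
    rw [this]
    rfl)
  have hz := Sys.aeval_gen_eq_zero q₂
  let ψ := isoOfPt (E₁ := D₁.map (algebraMap M L')) (E₂ := D₂.map (algebraMap M L'))
    (fun i => q₂ (Sys.gen _ i)) fun e => by rw [← aeval_isoPoly]; exact hz e
  exact ⟨((congrEquiv f₁).symm.trans ψ).trans (congrEquiv f₂)⟩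

/-- Homomorphisms over `A'[1/t]` descend. -/
theorem exists_hom_descent (ht' : φ t ∈ (⊥ : Ideal A').jacobson)
    {N₁ N₂ : ℕ} (D₁ : VDatum (Localization.Away t) N₁) (D₂ : VDatum (Localization.Away t) N₂)
    (ψ : (D₁.map (algebraMap _ (Localization.Away (φ t)))).E →ₐ[Localization.Away (φ t)]
      (D₂.map (algebraMap _ (Localization.Away (φ t)))).E) :
    ∃ f : D₁.E →ₐ[Localization.Away t] D₂.E, ∀ x, D₂.red (algebraMap _ _) (f x) = ψ (D₁.red (algebraMap _ _) x) := by
  classical
  let L := Localization.Away t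
  let L' := Localization.Away (φ t)
  have := smooth_hom D₁ D₂
  have := unramified_hom D₁ D₂
  let σ : HomRing D₁ D₂ →ₐ[L] L' := homPt D₁ D₂ ψ
  obtain ⟨S, n, hS⟩ := exists_sep (φ t) ht' (algebraMap L L') σ.toRingHom (RingHom.ext fun l => σ.commutes l)
  obtain ⟨τ, hτ⟩ := exists_point φ t hiso N₀ hN₀ (algebraMap L L') (awayMap_algebraMap φ t halg) σ.toRingHom
    (RingHom.ext fun l => σ.commutes l) S n
  have heq : (algebraMap L L').comp τ.toRingHom = σ.toRingHom :=
    hS _ (RingHom.ext fun l => congrArg (algebraMap L L') (τ.commutes l)) fun x hx => by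
      obtain ⟨a, ha⟩ := hτ x hx
      exact ⟨-a, by rw [mul_neg, map_neg, ← ha]; exact (neg_sub _ _).symm⟩
  let Φ : Fin N₂ → Fin N₁ → L := fun k j => τ (Sys.gen _ (k, j))
  have hΦ : ∀ e, VDatum.homDefect D₁.d D₂.d Φ e = 0 := fun e => by
    have h := (aeval_homPoly D₁ D₂ (fun p => τ (Sys.gen _ p)) e).symm.trans (Sys.aeval_gen_eq_zero τ e)
    exact h
  refine ⟨VDatum.toHom Φ hΦ, fun x => ?_⟩
  rw [VDatum.red_toHom (algebraMap L L') Φ hΦ (fun e => by
    show VDatum.homDefect (D₁.d.map _) (D₂.d.map _) _ e = 0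
    rw [VDatum.map_homDefect, hΦ, map_zero])]
  have hmat : (fun k j => algebraMap L L' (Φ k j)) = VDatum.matOf ψ := by
    funext k j
    exact (RingHom.congr_fun heq (Sys.gen _ (k, j))).trans (homPt_gen D₁ D₂ ψ (k, j))
  conv_rhs => rw [← VDatum.toHom_matOf ψ]
  simp only [hmat]
  rfl

omit hN₀

/-- Homomorphisms are determined over `A'[1/t]`. -/
theorem hom_ext_of_away (ht' : φ t ∈ (⊥ : Ideal A').jacobson)
    {N₁ N₂ : ℕ} (D₁ : VDatum (Localization.Away t) N₁) (D₂ : VDatum (Localization.Away t) N₂)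
    (f₁ f₂ : D₁.E →ₐ[Localization.Away t] D₂.E)
    (h : ∀ x, D₂.red (algebraMap _ (Localization.Away (φ t))) (f₁ x) = D₂.red (algebraMap _ _) (f₂ x)) :
    f₁ = f₂ := by
  let L := Localization.Away t
  let L' := Localization.Away (φ t)
  have := unramified_hom D₁ D₂
  let τ₁ : HomRing D₁ D₂ →ₐ[L] L := homPt D₁ D₂ (show (D₁.map (algebraMap L L)).E →ₐ[L] (D₂.map (algebraMap L L)).E from f₁)
  let τ₂ : HomRing D₁ D₂ →ₐ[L] L := homPt D₁ D₂ (show (D₁.map (algebraMap L L)).E →ₐ[L] (D₂.map (algebraMap L L)).E from f₂)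
  have hg : ∀ p, algebraMap L L' (τ₁ (Sys.gen _ p)) = algebraMap L L' (τ₂ (Sys.gen _ p)) := fun p => by
    rw [homPt_gen, homPt_gen]
    exact congrFun (congrArg ((D₂.map (algebraMap L L')).val) (h (D₁.toE (Datum.bv p.2)))) p.1
  have hτ : τ₁ = τ₂ := point_ext φ t hiso ht' τ₁ τ₂ fun x => by
    rw [← halg]
    exact AlgHom.congr_fun (Sys.hom_ext (f := (Algebra.ofId L L').comp τ₁) (g := (Algebra.ofId L L').comp τ₂) hg) x
  have hm : VDatum.matOf f₁ = VDatum.matOf f₂ := by
    funext k j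
    have := AlgHom.congr_fun hτ (Sys.gen _ (k, j))
    rw [homPt_gen, homPt_gen] at this
    exact this
  rw [← VDatum.toHom_matOf f₁, ← VDatum.toHom_matOf f₂]
  simp only [hm]

include hN₀

/-- Base change of finite étale algebras along `A[1/t] → A'[1/t]` is an equivalence. -/
theorem baseChange_isEquivalence [HenselianRing A' (Ideal.span {φ t})]
    {N₁ : ℕ} (hN₁ : ∀ a : A', (∃ m : ℕ, φ t ^ m * a = 0) → φ t ^ N₁ * a = 0) :
    (FiniteEtale.baseChange.{u, u} (Localization.Away t) (Localization.Away (φ t))).IsEquivalence := by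
  let L := Localization.Away t
  let L' := Localization.Away (φ t)
  have ht' : φ t ∈ (⊥ : Ideal A').jacobson := HenselianRing.jac (Ideal.mem_span_singleton_self _)
  let F := FiniteEtale.baseChange.{u, u} L L'
  have hfaith : F.Faithful := ⟨fun {X Y f₁ f₂} h => by
    obtain ⟨N₂, D₂, ⟨eY⟩⟩ := VDatum.exists_equiv (R := L) Y.obj
    obtain ⟨M₁, D₁, ⟨eX⟩⟩ := VDatum.exists_equiv (R := L) X.obj
    have key := hom_ext_of_away φ t hiso halg ht' D₁ D₂
      ((eY.toAlgHom.comp f₁.hom.hom).comp eX.symm.toAlgHom)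
      ((eY.toAlgHom.comp f₂.hom.hom).comp eX.symm.toAlgHom) fun z => by
        have hh : (1 : L') ⊗ₜ[L] f₁.hom.hom (eX.symm z) = (1 : L') ⊗ₜ[L] f₂.hom.hom (eX.symm z) :=
          congrArg (fun m : F.obj X ⟶ F.obj Y => m.hom.hom ((1 : L') ⊗ₜ[L] eX.symm z)) h
        have h2 := congrArg (fun y => D₂.baseChangeHom L' (Algebra.TensorProduct.map (AlgHom.id L' L') eY.toAlgHom y)) hh
        simp only [Algebra.TensorProduct.map_tmul, VDatum.baseChangeHom_tmul, one_smul, map_one] at h2
        exact h2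
    refine ObjectProperty.hom_ext _ (CommAlgCat.hom_ext (AlgHom.ext fun x => eY.injective ?_))
    have := AlgHom.congr_fun key (eX x)
    simpa using this⟩
  have hfull : F.Full := ⟨fun {X Y} h => by
    obtain ⟨N₂, D₂, ⟨eY⟩⟩ := VDatum.exists_equiv (R := L) Y.obj
    obtain ⟨M₁, D₁, ⟨eX⟩⟩ := VDatum.exists_equiv (R := L) X.obj
    let bY : L' ⊗[L] Y.obj →ₐ[L'] (D₂.map (algebraMap L L')).E :=
      (D₂.baseChangeHom L').comp (Algebra.TensorProduct.map (AlgHom.id L' L') eY.toAlgHom)
    let h0 : L' ⊗[L] X.obj →ₐ[L'] L' ⊗[L] Y.obj := h.hom.hom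
    let ψ := (bY.comp (h0.comp (Algebra.TensorProduct.map (AlgHom.id L' L') eX.symm.toAlgHom))).comp
      (D₁.baseChangeEquiv L').symm.toAlgHom
    obtain ⟨f, hf⟩ := exists_hom_descent φ t hiso hN₀ halg ht' D₁ D₂ ψ
    let f0 : X.obj →ₐ[L] Y.obj := (eY.symm.toAlgHom.comp f).comp eX.toAlgHom
    suffices key : Algebra.TensorProduct.map (AlgHom.id L' L') f0 = h0 from
      ⟨ObjectProperty.homMk (CommAlgCat.ofHom f0), ObjectProperty.hom_ext _ (CommAlgCat.hom_ext key)⟩
    refine Algebra.TensorProduct.ext' fun r x => ?_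
    show r ⊗ₜ[L] f0 x = h0 (r ⊗ₜ[L] x)
    have hbY : Function.Injective bY := (D₂.baseChangeHom_bijective L').1.comp
      (Algebra.TensorProduct.congr (AlgEquiv.refl : L' ≃ₐ[L'] L') eY).injective
    refine hbY ?_
    have h1 : (D₁.baseChangeEquiv L').symm (D₁.red (algebraMap L L') (eX x)) = (1 : L') ⊗ₜ[L] eX x :=
      (D₁.baseChangeEquiv L').symm_apply_eq.2 (by
        rw [show ∀ z, D₁.baseChangeEquiv L' z = D₁.baseChangeHom L' z from fun z => rfl]
        rw [VDatum.baseChangeHom_tmul, one_smul])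
    calc bY (r ⊗ₜ[L] f0 x) = r • D₂.red (algebraMap L L') (f (eX x)) := by
          simp [bY, f0, VDatum.baseChangeHom_tmul]
      _ = r • bY (h0 ((1 : L') ⊗ₜ[L] x)) := by
          rw [hf]
          show r • bY (h0 (Algebra.TensorProduct.map (AlgHom.id L' L') eX.symm.toAlgHom
            ((D₁.baseChangeEquiv L').symm (D₁.red (algebraMap L L') (eX x))))) = _
          rw [h1]
          simp
      _ = bY (h0 (r ⊗ₜ[L] x)) := by
          rw [← map_smul, ← map_smul, TensorProduct.smul_tmul', smul_eq_mul, mul_one]⟩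
  have hess : F.EssSurj := ⟨fun Y => by
    obtain ⟨N, D', ⟨eY⟩⟩ := VDatum.exists_equiv (R := L') Y.obj
    obtain ⟨D, ⟨e⟩⟩ := exists_descent φ t hiso hN₀ halg hN₁ D'
    have := D.etale
    exact ⟨FiniteEtale.of L D.E, ⟨FiniteEtale.isoMk (((D.baseChangeEquiv L').trans e).trans eY.symm)⟩⟩⟩
  exact { }

omit halg [Algebra (Localization.Away t) (Localization.Away (φ t))]

/-- Finite étale covers along `A[1/t] → A'[1/t]`. -/
theorem restrict_isEquivalence [HenselianRing A' (Ideal.span {φ t})]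
    {N₁ : ℕ} (hN₁ : ∀ a : A', (∃ m : ℕ, φ t ^ m * a = 0) → φ t ^ N₁ * a = 0) :
    (FEt.restrict (Spec.map (CommRingCat.ofHom (Localization.awayMap φ t)))).IsEquivalence := by
  let _ : Algebra (Localization.Away t) (Localization.Away (φ t)) := (Localization.awayMap φ t).toAlgebra
  have h := baseChange_isEquivalence φ t hiso hN₀ rfl hN₁
  have : ((Groth.Pi1FEt.specFun (Localization.Away t)) ⋙
      FEt.restrict (Spec.map (CommRingCat.ofHom (Localization.awayMap φ t)))).IsEquivalence :=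
    Functor.isEquivalence_of_iso (Groth.Pi1FEt.specFunPullbackIso (Localization.Away t) (Localization.Away (φ t)))
  exact Functor.isEquivalence_of_comp_left (Groth.Pi1FEt.specFun (Localization.Away t)) _

end Groth.Misc12.ElkikFEt
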