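import Mathlib
import Groth.Agent.Calg7.Elkik

/-!
# Integral models of algebras over `A[1/t]` with a chosen point
-/

set_option autoImplicit false

universe u

namespace Groth.Misc12.ElkikFEt

open MvPolynomial

/-- `y` is divisible by `t ^ n` integrally. -/
def Small {A' L' : Type u} [CommRing A'] [CommRing L'] [Algebra A' L'] (t : A') (n : ℕ) (y : L') : Prop :=
  ∃ a : A', y = algebraMap A' L' (t ^ n * a)

theorem Small.mono {A' L' : Type u} [CommRing A'] [CommRing L'] [Algebra A' L'] {t : A'} {m n : ℕ} {y : L'}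
    (h : Small t n y) (hmn : m ≤ n) : Small t m y := by
  obtain ⟨a, ha⟩ := h
  obtain ⟨j, rfl⟩ := Nat.exists_eq_add_of_le hmn
  exact ⟨t ^ j * a, by rw [ha, pow_add, mul_assoc]⟩

variable {A : Type u} [CommRing A] (t : A) {A' : Type u} [CommRing A'] (f : A →+* A')
  {L' : Type u} [CommRing L'] [Algebra A' L']
  {P : Type u} [CommRing P] [Algebra A P] {r : ℕ} (z : Fin r → P) (x : Fin r → A')

/-- The relations of the model. -/
noncomputable def modelIdeal : Ideal (MvPolynomial (Fin r) A) :=
  RingHom.ker (aeval z : MvPolynomial (Fin r) A →ₐ[A] P).toRingHom ⊓ RingHom.ker (eval₂Hom f x)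

/-- The map from the model to the algebra. -/
noncomputable def modelMap : MvPolynomial (Fin r) A ⧸ modelIdeal f z x →ₐ[A] P :=
  Ideal.Quotient.liftₐ _ (aeval z) fun _ h => h.1

/-- The point of the model. -/
noncomputable def modelPt : MvPolynomial (Fin r) A ⧸ modelIdeal f z x →+* A' :=
  Ideal.Quotient.lift _ (eval₂Hom f x) fun _ h => h.2

@[simp] theorem modelMap_mk (q : MvPolynomial (Fin r) A) :
    modelMap f z x (Ideal.Quotient.mk _ q) = aeval z q := rfl

@[simp] theorem modelPt_mk (q : MvPolynomial (Fin r) A) :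
    modelPt f z x (Ideal.Quotient.mk _ q) = eval₂Hom f x q := rfl

variable (P)

/-- Generators of an algebra over `A[1/t]`, on which a given point is integral. -/
theorem exists_model (L : Type u) [CommRing L] [Algebra A L] [IsLocalization.Away t L]
    [IsLocalization.Away (f t) L'] [Algebra L P] [IsScalarTower A L P] [Algebra.FiniteType L P]
    (σ : P →+* L') (hσ : ∀ a : A, σ (algebraMap A P a) = algebraMap A' L' (f a)) :
    ∃ (r : ℕ) (z : Fin r → P) (x : Fin r → A'),
      (∀ i, σ (z i) = algebraMap A' L' (x i)) ∧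
      ∀ p : P, ∃ (k : ℕ) (q : MvPolynomial (Fin r) A), algebraMap A P t ^ k * p = aeval z q := by
  classical
  obtain ⟨r, ρ, hρ⟩ := Algebra.FiniteType.iff_quotient_mvPolynomial''.1 (inferInstance : Algebra.FiniteType L P)
  choose k x hx using fun i => IsLocalization.Away.surj (f t) (σ (ρ (X i)))
  refine ⟨r, fun i => algebraMap A P t ^ k i * ρ (X i), x, fun i => ?_, fun p => ?_⟩
  · rw [map_mul, map_pow, hσ, ← hx i, mul_comm]
  obtain ⟨P', rfl⟩ := hρ p
  induction P' using MvPolynomial.induction_on with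
  | C l =>
    obtain ⟨n, a, ha⟩ := IsLocalization.Away.surj t l
    refine ⟨n, C a, ?_⟩
    rw [aeval_C, show ρ (C l) = algebraMap L P l from ρ.commutes l, IsScalarTower.algebraMap_apply A L P t,
      IsScalarTower.algebraMap_apply A L P a, ← map_pow, ← map_mul, mul_comm, ha]
  | add p q hp hq =>
    obtain ⟨k₁, q₁, h₁⟩ := hp
    obtain ⟨k₂, q₂, h₂⟩ := hq
    refine ⟨k₁ + k₂, C t ^ k₂ * q₁ + C t ^ k₁ * q₂, ?_⟩
    simp only [map_add, map_mul, map_pow, aeval_C]
    rw [← h₁, ← h₂]
    ring
  | mul_X p i hp =>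
    obtain ⟨k₁, q₁, h₁⟩ := hp
    refine ⟨k₁ + k i, q₁ * X i, ?_⟩
    rw [map_mul, map_mul, aeval_X, ← h₁]
    ring

variable {P}

/-- Polynomials killing the generators kill the point up to torsion. -/
theorem exists_pow_mem_modelIdeal [IsLocalization.Away (f t) L'] (σ : P →+* L')
    (hσ : ∀ a : A, σ (algebraMap A P a) = algebraMap A' L' (f a))
    (hx : ∀ i, σ (z i) = algebraMap A' L' (x i)) {q : MvPolynomial (Fin r) A} (hq : aeval z q = 0) :
    ∃ k : ℕ, C t ^ k * q ∈ modelIdeal f z x := by
  have h1 : σ.comp (aeval z : MvPolynomial (Fin r) A →ₐ[A] P).toRingHom =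
      (algebraMap A' L').comp (eval₂Hom f x) :=
    MvPolynomial.ringHom_ext (fun a => by simp [hσ]) (fun i => by simp [hx])
  have h2 : algebraMap A' L' (eval₂Hom f x q) = algebraMap A' L' 0 := by
    rw [map_zero, ← RingHom.comp_apply, ← h1, RingHom.comp_apply,
      show (aeval z : MvPolynomial (Fin r) A →ₐ[A] P).toRingHom q = 0 from hq, map_zero]
  obtain ⟨⟨_, k, rfl⟩, hk⟩ := (IsLocalization.eq_iff_exists (Submonoid.powers (f t)) L').1 h2
  simp only [mul_zero] at hk
  refine ⟨k, ?_, ?_⟩
  · show aeval z (C t ^ k * q) = 0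
    rw [map_mul, hq, mul_zero]
  · show eval₂Hom f x (C t ^ k * q) = 0
    rw [map_mul, map_pow, eval₂Hom_C, hk]

/-- The model becomes the algebra after inverting `t`. -/
theorem isLocalization_model (L : Type u) [CommRing L] [Algebra A L] [IsLocalization.Away t L]
    [IsLocalization.Away (f t) L'] [Algebra L P] [IsScalarTower A L P] (σ : P →+* L')
    (hσ : ∀ a : A, σ (algebraMap A P a) = algebraMap A' L' (f a))
    (hx : ∀ i, σ (z i) = algebraMap A' L' (x i))
    (hgen : ∀ p : P, ∃ (k : ℕ) (q : MvPolynomial (Fin r) A), algebraMap A P t ^ k * p = aeval z q)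
    [Algebra (MvPolynomial (Fin r) A ⧸ modelIdeal f z x) P]
    (halg : ∀ q, algebraMap (MvPolynomial (Fin r) A ⧸ modelIdeal f z x) P q = modelMap f z x q) :
    IsLocalization (Algebra.algebraMapSubmonoid (MvPolynomial (Fin r) A ⧸ modelIdeal f z x)
      (Submonoid.powers t)) P where
  map_units := by
    rintro ⟨_, _, ⟨k, rfl⟩, rfl⟩
    show IsUnit (algebraMap _ P (algebraMap A _ (t ^ k)))
    rw [halg, map_pow, map_pow, AlgHom.commutes, IsScalarTower.algebraMap_apply A L P]
    exact ((IsLocalization.Away.algebraMap_isUnit t).map _).pow k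
  surj p := by
    obtain ⟨k, q, hq⟩ := hgen p
    refine ⟨⟨Ideal.Quotient.mk _ q, ⟨_, ⟨t ^ k, ⟨k, rfl⟩, rfl⟩⟩⟩, ?_⟩
    show p * algebraMap _ P (algebraMap A _ (t ^ k)) = algebraMap _ P (Ideal.Quotient.mk _ q)
    rw [halg, halg, modelMap_mk, ← hq, map_pow, map_pow, AlgHom.commutes, mul_comm]
  exists_of_eq := by
    intro a b h
    obtain ⟨a, rfl⟩ := Ideal.Quotient.mk_surjective a
    obtain ⟨b, rfl⟩ := Ideal.Quotient.mk_surjective b
    rw [halg, halg, modelMap_mk, modelMap_mk, ← sub_eq_zero, ← map_sub] at h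
    obtain ⟨k, hk⟩ := exists_pow_mem_modelIdeal t f z x σ hσ hx h
    refine ⟨⟨_, ⟨t ^ k, ⟨k, rfl⟩, rfl⟩⟩, ?_⟩
    show algebraMap A _ (t ^ k) * _ = algebraMap A _ (t ^ k) * _
    rw [← sub_eq_zero, ← mul_sub, ← map_sub, map_pow]
    show Ideal.Quotient.mk _ (C t ^ k * (a - b)) = 0
    exact Ideal.Quotient.eq_zero_iff_mem.2 hk

/-- Smooth algebras over `A[1/t]` have models with Elkik data. -/
theorem nonempty_data (L : Type u) [CommRing L] [Algebra A L] [IsLocalization.Away t L]
    [IsLocalization.Away (f t) L'] [Algebra L P] [IsScalarTower A L P] [Algebra.Smooth L P] (σ : P →+* L')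
    (hσ : ∀ a : A, σ (algebraMap A P a) = algebraMap A' L' (f a))
    (hx : ∀ i, σ (z i) = algebraMap A' L' (x i))
    (hgen : ∀ p : P, ∃ (k : ℕ) (q : MvPolynomial (Fin r) A), algebraMap A P t ^ k * p = aeval z q) :
    Nonempty (Groth.Calg7.Elkik.Data t (modelIdeal f z x)) := by
  let B := MvPolynomial (Fin r) A ⧸ modelIdeal f z x
  let _ : Algebra B P := (modelMap f z x).toRingHom.toAlgebra
  have : IsScalarTower A B P := IsScalarTower.of_algebraMap_eq fun a => ((modelMap f z x).commutes a).symm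
  have hloc := isLocalization_model t f z x L σ hσ hx hgen (fun q => rfl)
  let S := Localization (Algebra.algebraMapSubmonoid B (Submonoid.powers t))
  let e : P ≃ₐ[A] S :=
    (IsLocalization.algEquiv (Algebra.algebraMapSubmonoid B (Submonoid.powers t)) P S).restrictScalars A
  have : Algebra.Smooth A L := Algebra.Smooth.of_isLocalization_Away t
  have : Algebra.Smooth A P := Algebra.Smooth.comp A L P
  have : Algebra.Smooth A S := Algebra.Smooth.of_equiv e
  have : Algebra.FormallySmooth (Localization.Away t) S :=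
    Algebra.FormallySmooth.localization_base (Submonoid.powers t)
  have : Algebra.FinitePresentation A S := (‹Algebra.Smooth A S›).finitePresentation
  have : Algebra.FormallySmooth A S := (‹Algebra.Smooth A S›).formallySmooth
  have : Algebra.FinitePresentation (Localization.Away t) S :=
    Algebra.FinitePresentation.of_restrict_scalars_finitePresentation A (Localization.Away t) S
  obtain ⟨d⟩ := Groth.Calg7.Elkik.exists_data t (Ideal.Quotient.mkₐ A (modelIdeal f z x))
    (Ideal.Quotient.mkₐ_surjective A _) ⟨inferInstance, inferInstance⟩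
  have hker : RingHom.ker (Ideal.Quotient.mkₐ A (modelIdeal f z x)).toRingHom = modelIdeal f z x :=
    Ideal.mk_ker
  exact ⟨hker ▸ d⟩

end Groth.Misc12.ElkikFEt
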