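import Mathlib

/-!
# Algebras representing systems of equations
-/

set_option autoImplicit false

universe u

namespace Groth.Misc12.ElkikFEt

open MvPolynomial

variable {S : Type u} [CommRing S] {σ τ : Type} (P : τ → MvPolynomial σ S)

/-- The coordinate ring of a system of equations. -/
abbrev Sys : Type u := MvPolynomial σ S ⧸ Ideal.span (Set.range P)

namespace Sys

/-- The coordinates. -/
noncomputable def gen (i : σ) : Sys P := Ideal.Quotient.mk _ (X i)

variable {P} {R : Type u} [CommRing R] [Algebra S R]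

/-- The point given by a solution. -/
noncomputable def pt (x : σ → R) (h : ∀ j, aeval x (P j) = 0) : Sys P →ₐ[S] R :=
  Ideal.Quotient.liftₐ _ (aeval x) fun a ha => by
    have : Ideal.span (Set.range P) ≤ RingHom.ker (aeval x : MvPolynomial σ S →ₐ[S] R) :=
      Ideal.span_le.2 (by rintro _ ⟨j, rfl⟩; exact h j)
    exact this ha

@[simp] theorem pt_gen (x : σ → R) (h : ∀ j, aeval x (P j) = 0) (i : σ) : pt x h (gen P i) = x i :=
  aeval_X x i

theorem hom_ext {f g : Sys P →ₐ[S] R} (h : ∀ i, f (gen P i) = g (gen P i)) : f = g :=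
  Ideal.Quotient.algHom_ext _ (MvPolynomial.algHom_ext h)

theorem aeval_gen (f : Sys P →ₐ[S] R) (q : MvPolynomial σ S) :
    aeval (fun i => f (gen P i)) q = f (Ideal.Quotient.mk _ q) :=
  (AlgHom.congr_fun (MvPolynomial.algHom_ext (f := f.comp (Ideal.Quotient.mkₐ S _))
    (g := aeval fun i => f (gen P i)) fun i => by simp [gen]) q).symm

theorem aeval_gen_eq_zero (f : Sys P →ₐ[S] R) (j : τ) : aeval (fun i => f (gen P i)) (P j) = 0 := by
  rw [aeval_gen, Ideal.Quotient.eq_zero_iff_mem.2 (Ideal.subset_span (Set.mem_range_self j)), map_zero]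

variable (P)

/-- Smoothness from the lifting of solutions along square zero thickenings. -/
theorem smooth [Finite σ] [Finite τ]
    (h : ∀ (R : Type u) [CommRing R] [Algebra S R] (I : Ideal R), I ^ 2 = ⊥ →
      ∀ x : σ → R ⧸ I, (∀ j, aeval x (P j) = 0) →
        ∃ y : σ → R, (∀ j, aeval y (P j) = 0) ∧ ∀ i, Ideal.Quotient.mk I (y i) = x i) :
    Algebra.Smooth S (Sys P) where
  formallySmooth := by
    refine Algebra.FormallySmooth.of_comp_surjective fun B _ _ I hI f => ?_
    obtain ⟨y, hy, hyx⟩ := h B I hI (fun i => f (gen P i)) (aeval_gen_eq_zero f)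
    exact ⟨pt y hy, hom_ext fun i => by
      rw [AlgHom.comp_apply, pt_gen]
      exact hyx i⟩
  finitePresentation := Algebra.FinitePresentation.quotient (Submodule.fg_span (Set.finite_range P))

end Sys

end Groth.Misc12.ElkikFEt
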