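import Groth.Agent.Misc12.ElkikFEt.Points
import Groth.Agent.Misc12.ElkikFEt.Cont
import Groth.Agent.Misc12.ElkikFEt.Sys

/-!
# Finitely generated projective modules along `A[1/t] → A'[1/t]`
-/

set_option autoImplicit false

universe u

namespace Groth.Misc12.ElkikFEt

open MvPolynomial TensorProduct Matrix

variable {S : Type u} [CommRing S] {N : ℕ}

/-- The equations of idempotent matrices. -/
noncomputable def idemPoly (S : Type u) [CommRing S] (N : ℕ) (p : Fin N × Fin N) :
    MvPolynomial (Fin N × Fin N) S :=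
  let U : Matrix (Fin N) (Fin N) (MvPolynomial (Fin N × Fin N) S) := Matrix.of fun i j => X (i, j)
  (U * U - U) p.1 p.2

/-- The coordinate ring of idempotent matrices. -/
abbrev IdemRing (S : Type u) [CommRing S] (N : ℕ) : Type u := Sys (idemPoly S N)

theorem aeval_idemPoly {R : Type u} [CommRing R] [Algebra S R] (x : Fin N × Fin N → R) (p : Fin N × Fin N) :
    aeval x (idemPoly S N p) =
      ((Matrix.of fun i j => x (i, j)) * (Matrix.of fun i j => x (i, j)) - Matrix.of fun i j => x (i, j)) p.1 p.2 := by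
  simp [idemPoly, Matrix.mul_apply, map_sum]

theorem isIdempotentElem_of_pt {R : Type u} [CommRing R] [Algebra S R] (x : Fin N × Fin N → R)
    (h : ∀ p, aeval x (idemPoly S N p) = 0) : IsIdempotentElem (Matrix.of fun i j => x (i, j)) :=
  sub_eq_zero.1 (Matrix.ext fun i j => (aeval_idemPoly (S := S) x (i, j)).symm.trans (h (i, j)))

/-- The point of an idempotent matrix. -/
noncomputable def idemPt {R : Type u} [CommRing R] [Algebra S R] (e : Matrix (Fin N) (Fin N) R)
    (he : IsIdempotentElem e) : IdemRing S N →ₐ[S] R :=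
  Sys.pt (fun p => e p.1 p.2) fun p => by
    rw [aeval_idemPoly]
    show (e * e - e) p.1 p.2 = 0
    rw [he.eq, sub_self]; rfl

theorem idemPt_gen {R : Type u} [CommRing R] [Algebra S R] (e : Matrix (Fin N) (Fin N) R)
    (he : IsIdempotentElem e) (p : Fin N × Fin N) : idemPt (S := S) e he (Sys.gen _ p) = e p.1 p.2 :=
  Sys.pt_gen _ _ p

variable (S N)

theorem smooth_idem : Algebra.Smooth S (IdemRing S N) :=
  Sys.smooth _ fun R _ _ I hI x hx => by
    choose y hy using fun p => Ideal.Quotient.mk_surjective (x p)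
    let e : Matrix (Fin N) (Fin N) R := Matrix.of fun i j => y (i, j)
    let F := (Ideal.Quotient.mk I).mapMatrix (m := Fin N)
    have hF : F e = Matrix.of fun i j => x (i, j) := Matrix.ext fun i j => hy (i, j)
    have hbar : F e * F e = F e := by rw [hF]; exact isIdempotentElem_of_pt x hx
    set c := e * e - e with hc
    have hcI : ∀ i j, c i j ∈ I := fun i j => by
      have h0 : F c = 0 := by rw [hc, map_sub, map_mul, hbar, sub_self]
      exact Ideal.Quotient.eq_zero_iff_mem.1 (congrFun (congrFun h0 i) j)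
    have hcc : c * c = 0 := Matrix.ext fun i j => by
      rw [Matrix.mul_apply]
      refine Finset.sum_eq_zero fun k _ => ?_
      have h2 : c i k * c k j ∈ I ^ 2 := by rw [pow_two]; exact Ideal.mul_mem_mul (hcI i k) (hcI k j)
      rw [hI, Ideal.mem_bot] at h2
      exact h2
    set e' := 3 * e ^ 2 - 2 * e ^ 3 with he'
    have hidem : e' * e' = e' := by
      have : e' * e' - e' = c * c * (4 * e ^ 2 - 4 * e - 3) := by
        simp only [he', hc, mul_sub, sub_mul, pow_succ, pow_zero, one_mul]
        noncomm_ring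
      rwa [hcc, zero_mul, sub_eq_zero] at this
    refine ⟨fun p => e' p.1 p.2, fun p => ?_, fun p => ?_⟩
    · rw [aeval_idemPoly]
      show (e' * e' - e') p.1 p.2 = 0
      rw [hidem, sub_self]; rfl
    · have h3 : F e' = F e := by
        simp only [he', map_sub, map_mul, map_pow, map_ofNat, pow_succ, pow_zero, one_mul, hbar]
        noncomm_ring
      exact (congrFun (congrFun h3 p.1) p.2).trans (congrFun (congrFun hF p.1) p.2)

variable {S N}

/-- The image of an idempotent matrix. -/
abbrev img {R : Type u} [CommRing R] (e : Matrix (Fin N) (Fin N) R) : Submodule R (Fin N → R) :=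
  LinearMap.range e.mulVecLin

theorem mulVec_of_mem {R : Type u} [CommRing R] {e : Matrix (Fin N) (Fin N) R} (he : IsIdempotentElem e)
    {x : Fin N → R} (hx : x ∈ img e) : e *ᵥ x = x := by
  obtain ⟨y, rfl⟩ := hx
  rw [Matrix.mulVecLin_apply, Matrix.mulVec_mulVec, he.eq]

theorem projective_img {R : Type u} [CommRing R] {e : Matrix (Fin N) (Fin N) R} (he : IsIdempotentElem e) :
    Module.Projective R (img e) :=
  Module.Projective.of_split (img e).subtype e.mulVecLin.rangeRestrict
    (LinearMap.ext fun x => Subtype.ext (mulVec_of_mem he x.2))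

section baseChange

variable {R R' : Type u} [CommRing R] [CommRing R'] [Algebra R R'] {e : Matrix (Fin N) (Fin N) R}

/-- Images of idempotent matrices commute with base change. -/
theorem nonempty_baseChange_img (he : IsIdempotentElem e) :
    Nonempty (R' ⊗[R] img e ≃ₗ[R'] img (e.map (algebraMap R R'))) := by
  let e' := e.map (algebraMap R R')
  have hmap : ∀ x, algebraMap R R' ∘ (e *ᵥ x) = e' *ᵥ (algebraMap R R' ∘ x) := fun x => funext fun i =>
    (algebraMap R R').map_mulVec e x i
  let g : img e →ₗ[R] (Fin N → R') := ((Algebra.linearMap R R').compLeft (Fin N)).comp (img e).subtype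
  have hg : ∀ x : img e, (g.liftBaseChange R') (1 ⊗ₜ x) = algebraMap R R' ∘ (x : Fin N → R) := fun x => by
    rw [LinearMap.liftBaseChange_tmul, one_smul]; rfl
  let f : R' ⊗[R] img e →ₗ[R'] img e' := LinearMap.codRestrict _ (g.liftBaseChange R') fun z => by
    induction z with
    | zero => rw [map_zero]; exact zero_mem _
    | tmul r x =>
      rw [LinearMap.liftBaseChange_tmul]
      refine Submodule.smul_mem _ r ⟨algebraMap R R' ∘ (x : Fin N → R), ?_⟩
      rw [Matrix.mulVecLin_apply, ← hmap, mulVec_of_mem he x.2]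
      rfl
    | add a b ha hb => rw [map_add]; exact add_mem ha hb
  let col : Fin N → img e := fun i => ⟨e *ᵥ Pi.single i 1, LinearMap.mem_range_self e.mulVecLin _⟩
  let h : (Fin N → R') →ₗ[R'] R' ⊗[R] img e :=
    (Pi.basisFun R' (Fin N)).constr R' fun i => 1 ⊗ₜ col i
  have hcol : ∀ i, h (Pi.single i 1) = 1 ⊗ₜ col i := fun i => by
    rw [← Pi.basisFun_apply R' (Fin N) i, Module.Basis.constr_basis]
  have hleft : ∀ z, h (g.liftBaseChange R' z) = z := by
    intro z
    induction z with
    | zero => simp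
    | tmul r x =>
      have hx : x = ∑ i, (x : Fin N → R) i • col i := Subtype.ext (by
        conv_lhs => rw [← mulVec_of_mem he x.2, pi_eq_sum_univ' (x : Fin N → R), Matrix.mulVec_sum]
        simp [col, Matrix.mulVec_smul])
      have h1 : h (algebraMap R R' ∘ (x : Fin N → R)) = 1 ⊗ₜ x := by
        rw [pi_eq_sum_univ' (algebraMap R R' ∘ (x : Fin N → R)), map_sum]
        conv_rhs => rw [hx, TensorProduct.tmul_sum]
        refine Finset.sum_congr rfl fun i _ => ?_
        rw [map_smul, hcol, Function.comp_apply, algebraMap_smul, TensorProduct.tmul_smul]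
      rw [show r ⊗ₜ[R] x = r • ((1 : R') ⊗ₜ[R] x) by rw [TensorProduct.smul_tmul', smul_eq_mul, mul_one],
        map_smul, map_smul, hg, h1]
    | add a b ha hb => rw [map_add, map_add, ha, hb]
  refine ⟨LinearEquiv.ofBijective f ⟨fun a b hab => ?_, fun y => ⟨h y, Subtype.ext ?_⟩⟩⟩
  · exact Function.LeftInverse.injective (g := h) hleft (congrArg Subtype.val hab)
  · show g.liftBaseChange R' (h y) = y
    have hc : (g.liftBaseChange R').comp h = e'.mulVecLin :=
      (Pi.basisFun R' (Fin N)).ext fun i => by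
        rw [LinearMap.comp_apply, Pi.basisFun_apply, hcol, hg, Matrix.mulVecLin_apply]
        show algebraMap R R' ∘ (e *ᵥ Pi.single i 1) = e' *ᵥ Pi.single i 1
        rw [hmap]
        congr 1
        ext j
        by_cases h : j = i
        · subst h; simp
        · simp [Pi.single_eq_of_ne h]
    exact (LinearMap.congr_fun hc y).trans (mulVec_of_mem
      (show IsIdempotentElem e' from he.map (algebraMap R R').mapMatrix) y.2)

end baseChange

variable {A A' : Type u} [CommRing A] [CommRing A'] (φ : A →+* A') (t : A)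
  {L : Type u} [CommRing L] [Algebra A L] [IsLocalization.Away t L]
  {L' : Type u} [CommRing L'] [Algebra A' L'] [IsLocalization.Away (φ t) L'] [Algebra L L']

/-- Finitely generated projective modules descend. -/
theorem exists_module_descent [HenselianRing A (Ideal.span {t})] [HenselianRing A' (Ideal.span {φ t})]
    (hiso : Groth.Calg7.IdemAway.IsoModPowers φ t)
    {N₀ : ℕ} (hN₀ : ∀ a : A, (∃ m : ℕ, t ^ m * a = 0) → t ^ N₀ * a = 0)
    {N₁ : ℕ} (hN₁ : ∀ a : A', (∃ m : ℕ, φ t ^ m * a = 0) → φ t ^ N₁ * a = 0)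
    (hg : ∀ a : A, algebraMap L L' (algebraMap A L a) = algebraMap A' L' (φ a))
    (M' : Type u) [AddCommGroup M'] [Module L' M'] [Module.Finite L' M'] [Module.Projective L' M'] :
    ∃ (M : Type u) (_ : AddCommGroup M) (_ : Module L M), Module.Finite L M ∧ Module.Projective L M ∧
      Nonempty (L' ⊗[L] M ≃ₗ[L'] M') := by
  classical
  obtain ⟨N, p, hp⟩ := Module.Finite.exists_fin' L' M'
  obtain ⟨s, hs⟩ := Module.projective_lifting_property p LinearMap.id hp
  have hps : ∀ x, p (s x) = x := fun x => LinearMap.congr_fun hs x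
  let E' : Matrix (Fin N) (Fin N) L' := LinearMap.toMatrix' (s.comp p)
  have hE : ∀ x, E' *ᵥ x = s (p x) := fun x => LinearMap.toMatrix'_mulVec _ x
  have hE' : IsIdempotentElem E' := Matrix.ext_of_mulVec_single fun i => by
    rw [← Matrix.mulVec_mulVec, hE, hE, hps]
  -- the family
  let M := IdemRing L' N
  let σ₀ : M →ₐ[L'] L' := idemPt E' hE'
  let U : Matrix (Fin N) (Fin N) M := Matrix.of fun i j => Sys.gen _ (i, j)
  let C' : Matrix (Fin N) (Fin N) M := E'.map (algebraMap L' M)
  let u := U * C' + (1 - U) * (1 - C')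
  let δ : M := u.det
  have hdet : ∀ σ : M →ₐ[L'] L', σ δ = ((U.map σ) * E' + (1 - U.map σ) * (1 - E')).det := fun σ => by
    show σ.toRingHom u.det = _
    rw [RingHom.map_det]
    congr 1
    have hC : σ.toRingHom.mapMatrix C' = E' := Matrix.ext fun i j => σ.commutes _
    simp only [u, map_add, map_mul, map_sub, map_one, hC]
    rfl
  have hU₀ : U.map σ₀ = E' := Matrix.ext fun i j => idemPt_gen E' hE' (i, j)
  have hδ₀ : IsUnit (σ₀ δ) := by
    have : E' * E' + (1 - E') * (1 - E') = 1 := by
      rw [hE'.eq, hE'.one_sub.eq, add_sub_cancel]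
    rw [hdet, hU₀, this, Matrix.det_one]
    exact isUnit_one
  let Q := Localization.Away δ
  have : Algebra.Smooth M Q := Algebra.Smooth.of_isLocalization_Away δ
  let q₀ : Q →+* L' := IsLocalization.Away.lift (g := σ₀.toRingHom) δ hδ₀
  obtain ⟨S, n, hS⟩ := exists_point_param (φ t) N₁ hN₁ σ₀ q₀
    (RingHom.ext fun m => IsLocalization.Away.lift_eq δ hδ₀ m)
  have := smooth_idem L N
  let σ : IdemRing L N →ₐ[L] L' := idemPt E' hE'
  choose q hq using fun x : M => Ideal.Quotient.mk_surjective x
  choose k hk using fun x : M => exists_small_eval (s := φ t) (fun r => E' r.1 r.2) (q x)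
  obtain ⟨τ, hτ⟩ := exists_point φ t hiso N₀ hN₀ (algebraMap L L') hg σ.toRingHom
    (RingHom.ext fun l => σ.commutes l) (Finset.univ.image (Sys.gen (idemPoly L N))) (n + S.sup k)
  let e : Matrix (Fin N) (Fin N) L := Matrix.of fun i j => τ (Sys.gen _ (i, j))
  have he : IsIdempotentElem e := isIdempotentElem_of_pt _ (Sys.aeval_gen_eq_zero τ)
  let e'' := e.map (algebraMap L L')
  have he'' : IsIdempotentElem e'' := he.map (algebraMap L L').mapMatrix
  let σ₁ : M →ₐ[L'] L' := idemPt e'' he''
  have hclose : ∀ r : Fin N × Fin N, Small (φ t) (n + S.sup k) (e'' r.1 r.2 - E' r.1 r.2) := fun r => by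
    obtain ⟨a, ha⟩ := hτ _ (Finset.mem_image_of_mem _ (Finset.mem_univ r))
    refine ⟨-a, ?_⟩
    rw [mul_neg, map_neg, ← ha, ← idemPt_gen (S := L) E' hE' r]
    exact (neg_sub _ _).symm
  obtain ⟨q₁, hq₁⟩ := hS σ₁ fun x hx => by
    have e₁ : ∀ (F : Matrix (Fin N) (Fin N) L') (hF : IsIdempotentElem F),
        idemPt (S := L') F hF x = eval (fun r => F r.1 r.2) (q x) := fun F hF => by
      conv_lhs => rw [← hq x]
      exact congrArg (fun f : MvPolynomial (Fin N × Fin N) L' →+* L' => f (q x))
        (MvPolynomial.ringHom_ext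
          (f := (aeval fun r : Fin N × Fin N => F r.1 r.2 : MvPolynomial (Fin N × Fin N) L' →ₐ[L'] L').toRingHom)
          (g := eval fun r => F r.1 r.2) (fun l => by simp) (fun i => by simp))
    show Small (φ t) n (idemPt e'' he'' x - idemPt E' hE' x)
    rw [e₁, e₁]
    exact hk x n _ fun r => (hclose r).mono (by have := Finset.le_sup (f := k) hx; omega)
  have hδ₁ : IsUnit (σ₁ δ) := by
    have : σ₁ δ = q₁ (algebraMap M Q δ) := (RingHom.congr_fun hq₁ δ).symm
    rw [this]
    exact (IsLocalization.Away.algebraMap_isUnit δ).map q₁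
  have hU₁ : U.map σ₁ = e'' := Matrix.ext fun i j => idemPt_gen e'' he'' (i, j)
  rw [hdet, hU₁] at hδ₁
  set v := e'' * E' + (1 - e'') * (1 - E') with hv
  have hvc : e'' * v = v * E' := by
    rw [hv, mul_add, add_mul, ← mul_assoc, ← mul_assoc, he''.eq, he''.mul_one_sub_self, zero_mul, add_zero,
      mul_assoc, mul_assoc, hE'.eq, hE'.one_sub_mul_self, mul_zero, add_zero]
  have himg : Submodule.map (v.mulVecLin) (img E') = img e'' := by
    rw [img, img, ← LinearMap.range_comp, ← Matrix.mulVecLin_mul, ← hvc, Matrix.mulVecLin_mul,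
      LinearMap.range_comp, show LinearMap.range v.mulVecLin = ⊤ from LinearMap.range_eq_top.2 fun y =>
        ⟨v⁻¹ *ᵥ y, by rw [Matrix.mulVecLin_apply, Matrix.mulVec_mulVec, Matrix.mul_nonsing_inv _ hδ₁, Matrix.one_mulVec]⟩,
      Submodule.map_top]
  have hvinj : Function.Injective v.mulVecLin := Function.LeftInverse.injective (g := fun y => v⁻¹ *ᵥ y) fun y => by
    show v⁻¹ *ᵥ (v *ᵥ y) = y
    rw [Matrix.mulVec_mulVec, Matrix.nonsing_inv_mul _ hδ₁, Matrix.one_mulVec]
  let ε : img E' ≃ₗ[L'] img e'' :=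
    (Submodule.equivMapOfInjective v.mulVecLin hvinj (img E')).trans (LinearEquiv.ofEq _ _ himg)
  let μ : M' →ₗ[L'] img E' := LinearMap.codRestrict _ s fun x => ⟨s x, by
    rw [Matrix.mulVecLin_apply, hE, hps]⟩
  have hμ : Function.Bijective μ := by
    refine ⟨fun x y h => ?_, fun y => ⟨p y.1, Subtype.ext ?_⟩⟩
    · rw [← hps x, ← hps y]; exact congrArg p (congrArg Subtype.val h)
    · show s (p y.1) = y.1
      rw [← hE, mulVec_of_mem hE' y.2]
  obtain ⟨β⟩ := nonempty_baseChange_img (R' := L') he
  exact ⟨img e, inferInstance, inferInstance, Module.Finite.range _, projective_img he,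
    ⟨β.trans (ε.symm.trans (LinearEquiv.ofBijective μ hμ).symm)⟩⟩

end Groth.Misc12.ElkikFEt
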