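import Groth.Agent.Misc12.ElkikFEt.Model
import Groth.Agent.Calg7.IdemAway

/-!
# Points of smooth algebras along `A[1/t] → A'[1/t]`
-/

set_option autoImplicit false

universe u

namespace Groth.Misc12.ElkikFEt

open MvPolynomial

/-- Push data of smoothness away from `t` along a ring map. -/
noncomputable def dataMap {A A' : Type u} [CommRing A] [CommRing A'] {t : A} (δ : A →+* A') {r : ℕ}
    {I : Ideal (MvPolynomial (Fin r) A)} (d : Groth.Calg7.Elkik.Data t I) :
    Groth.Calg7.Elkik.Data (δ t) (I.map (MvPolynomial.map δ)) where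
  m := d.m
  f l := MvPolynomial.map δ (d.f l)
  mem l := Ideal.mem_map_of_mem _ (d.mem l)
  gen g hg := by
    have hspan : (Ideal.span (Set.range d.f)).map (MvPolynomial.map δ) =
        Ideal.span (Set.range fun l => MvPolynomial.map δ (d.f l)) := by
      rw [Ideal.map_span, ← Set.range_comp]; rfl
    rw [Ideal.map, Ideal.span] at hg
    induction hg using Submodule.span_induction with
    | mem y hy =>
      obtain ⟨g₀, hg₀, rfl⟩ := hy
      obtain ⟨k, hk⟩ := d.gen g₀ hg₀
      refine ⟨k, ?_⟩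
      rw [← hspan, ← MvPolynomial.map_C δ t, ← map_pow, ← map_mul]
      exact Ideal.mem_map_of_mem _ hk
    | zero => exact ⟨0, by simp⟩
    | add a b _ _ ha hb =>
      obtain ⟨k₁, h₁⟩ := ha
      obtain ⟨k₂, h₂⟩ := hb
      refine ⟨k₁ + k₂, ?_⟩
      rw [mul_add, pow_add]
      refine add_mem ?_ ?_
      · rw [mul_comm (C (δ t) ^ k₁), mul_assoc]; exact Ideal.mul_mem_left _ _ h₁
      · rw [mul_assoc]; exact Ideal.mul_mem_left _ _ h₂
    | smul c a _ ha =>
      obtain ⟨k, hk⟩ := ha
      exact ⟨k, by rw [smul_eq_mul, mul_left_comm]; exact Ideal.mul_mem_left _ _ hk⟩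
  c := d.c
  H j l := MvPolynomial.map δ (d.H j l)
  split i := by
    have h := Ideal.mem_map_of_mem (MvPolynomial.map δ) (d.split i)
    rw [Ideal.map_mul, Ideal.map_span, ← Set.range_comp] at h
    simpa [map_sum, pderiv_map, Function.comp_def] using h

section point

variable {A A' : Type u} [CommRing A] [CommRing A'] (φ : A →+* A') (t : A)
  {L : Type u} [CommRing L] [Algebra A L] [IsLocalization.Away t L]
  {L' : Type u} [CommRing L'] [Algebra A' L'] [IsLocalization.Away (φ t) L']

/-- Points over `A'[1/t]` of smooth algebras over `A[1/t]` are approximated by points over `A[1/t]`. -/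
theorem exists_point [HenselianRing A (Ideal.span {t})] (hiso : Groth.Calg7.IdemAway.IsoModPowers φ t)
    (N : ℕ) (hN : ∀ a : A, (∃ m : ℕ, t ^ m * a = 0) → t ^ N * a = 0)
    (g : L →+* L') (hg : ∀ a : A, g (algebraMap A L a) = algebraMap A' L' (φ a))
    {P : Type u} [CommRing P] [Algebra L P] [Algebra.Smooth L P]
    (σ : P →+* L') (hσ : σ.comp (algebraMap L P) = g) (S : Finset P) (n : ℕ) :
    ∃ τ : P →ₐ[L] L, ∀ s ∈ S, Small (φ t) n (σ s - g (τ s)) := by
  classical
  let _ : Algebra A P := ((algebraMap L P).comp (algebraMap A L)).toAlgebra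
  have : IsScalarTower A L P := IsScalarTower.of_algebraMap_eq fun _ => rfl
  have hσA : ∀ a : A, σ (algebraMap A P a) = algebraMap A' L' (φ a) := fun a => by
    rw [IsScalarTower.algebraMap_apply A L P, ← hg, ← hσ]; rfl
  obtain ⟨r, z, x, hx, hgen⟩ := exists_model t φ P L σ hσA
  obtain ⟨d⟩ := nonempty_data t φ z x L σ hσA hx hgen
  choose k q hq using hgen
  set kmax := S.sup k with hkmax
  set p := n + kmax + N + d.c + 1 with hp
  set M := 2 * p + d.c + 1 with hM
  choose a ha using fun i => hiso.surj M (x i)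
  let π := Ideal.Quotient.mk (Ideal.span {φ t ^ M})
  have happrox : ∀ g' ∈ modelIdeal φ z x, eval a g' ∈ Ideal.span {t ^ (2 * p + d.c + 1)} := by
    intro g' hg'
    refine hiso.inj M _ ?_
    have h1 : (π.comp φ).comp (eval a) = π.comp (eval₂Hom φ x) :=
      MvPolynomial.ringHom_ext (fun a => by simp) (fun i => by
        simp only [RingHom.comp_apply, eval_X, eval₂Hom_X']
        exact ((Ideal.Quotient.eq).2 (ha i)).symm)
    have h2 := RingHom.congr_fun h1 g'
    rw [RingHom.comp_apply, RingHom.comp_apply, RingHom.comp_apply,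
      show eval₂Hom φ x g' = 0 from hg'.2, map_zero] at h2
    exact Ideal.Quotient.eq_zero_iff_mem.1 h2
  obtain ⟨b, hb0, hba⟩ := Groth.Calg7.Elkik.exists_root t N hN d p (by omega) (by omega) a happrox
  let B := MvPolynomial (Fin r) A ⧸ modelIdeal φ z x
  let _ : Algebra B P := (modelMap φ z x).toRingHom.toAlgebra
  have hgen' : ∀ p : P, ∃ (k : ℕ) (q : MvPolynomial (Fin r) A), algebraMap A P t ^ k * p = aeval z q :=
    fun p => ⟨k p, q p, hq p⟩
  have hloc := isLocalization_model t φ z x L σ hσA hx hgen' (fun q => rfl)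
  let τ₀ : B →+* L := (algebraMap A L).comp
    (Ideal.Quotient.lift (modelIdeal φ z x) (eval b) fun g' hg' => hb0 g' hg')
  have hu : ∀ y : Algebra.algebraMapSubmonoid B (Submonoid.powers t), IsUnit (τ₀ y) := by
    rintro ⟨_, _, ⟨j, rfl⟩, rfl⟩
    show IsUnit (algebraMap A L (eval b (C (t ^ j))))
    rw [eval_C, map_pow]
    exact (IsLocalization.Away.algebraMap_isUnit t).pow j
  let τ : P →+* L := IsLocalization.lift (S := P) hu
  have hτB : ∀ q' : MvPolynomial (Fin r) A, τ (aeval z q') = algebraMap A L (eval b q') := fun q' =>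
    IsLocalization.lift_eq (S := P) hu (Ideal.Quotient.mk _ q')
  have hτL : τ.comp (algebraMap L P) = RingHom.id L := by
    refine IsLocalization.ringHom_ext (Submonoid.powers t) (RingHom.ext fun a => ?_)
    show τ (algebraMap L P (algebraMap A L a)) = algebraMap A L a
    rw [← IsScalarTower.algebraMap_apply A L P, ← aeval_C z a, hτB, eval_C]
  refine ⟨{ τ with commutes' := fun l => RingHom.congr_fun hτL l }, fun s hs => ?_⟩
  show Small (φ t) n (σ s - g (τ s))
  -- compare on `t ^ k s`
  have hp1 : (Ideal.Quotient.mk (Ideal.span {φ t ^ p})).comp (φ.comp (eval b)) =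
      (Ideal.Quotient.mk (Ideal.span {φ t ^ p})).comp (eval₂Hom φ x) :=
    MvPolynomial.ringHom_ext (fun a => by simp) (fun i => by
      simp only [RingHom.comp_apply, eval_X, eval₂Hom_X']
      rw [Ideal.Quotient.eq]
      obtain ⟨u₁, hu₁⟩ := Ideal.mem_span_singleton.1 (hba i)
      obtain ⟨u₂, hu₂⟩ := Ideal.mem_span_singleton.1 (ha i)
      refine Ideal.mem_span_singleton.2 ⟨φ u₁ - φ t ^ (M - p) * u₂, ?_⟩
      have : φ (b i) - φ (a i) = φ t ^ p * φ u₁ := by rw [← map_sub, hu₁, map_mul, map_pow]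
      rw [mul_sub, ← mul_assoc, ← pow_add, Nat.add_sub_cancel' (show p ≤ M by omega), ← this, ← hu₂]
      ring)
  obtain ⟨w, hw⟩ := Ideal.mem_span_singleton.1 ((Ideal.Quotient.eq).1 (RingHom.congr_fun hp1 (q s)).symm)
  have h1 : algebraMap A' L' (φ t) ^ k s * (σ s - g (τ s)) =
      algebraMap A' L' (φ t) ^ k s * algebraMap A' L' (φ t ^ (p - k s) * w) := by
    have hσq : σ (aeval z (q s)) = algebraMap A' L' (eval₂Hom φ x (q s)) :=
      RingHom.congr_fun (MvPolynomial.ringHom_ext
        (f := σ.comp (aeval z : MvPolynomial (Fin r) A →ₐ[A] P).toRingHom)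
        (g := (algebraMap A' L').comp (eval₂Hom φ x))
        (fun a => by simp [hσA]) (fun i => by simp [hx])) (q s)
    have e1 : algebraMap A' L' (φ t) ^ k s * σ s = algebraMap A' L' (eval₂Hom φ x (q s)) := by
      rw [← hσA, ← map_pow, ← map_mul, hq, hσq]
    have e2 : algebraMap A' L' (φ t) ^ k s * g (τ s) = algebraMap A' L' (φ (eval b (q s))) := by
      have : τ (algebraMap A P t) = algebraMap A L t := by
        rw [← aeval_C z t, hτB, eval_C]
      rw [← hg, ← map_pow, ← map_mul, ← this, ← map_pow, ← map_mul, hq, hτB, hg]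
    rw [mul_sub, e1, e2, ← map_sub]
    rw [show eval₂Hom φ x (q s) - φ (eval b (q s)) = φ t ^ p * w from hw,
      map_mul, map_mul, map_pow, map_pow, ← mul_assoc, ← pow_add,
      Nat.add_sub_cancel' (show k s ≤ p by have := Finset.le_sup (f := k) hs; omega)]
  refine Small.mono ⟨w, ((IsLocalization.Away.algebraMap_isUnit (φ t)).pow _).mul_left_cancel h1⟩ ?_
  have := Finset.le_sup (f := k) hs
  omega

end point

section param

variable {A' : Type u} [CommRing A'] (s : A') {L' : Type u} [CommRing L'] [Algebra A' L']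
  [IsLocalization.Away s L']

/-- Points of a smooth algebra in a family: nearby fibres also have points. -/
theorem exists_point_param [HenselianRing A' (Ideal.span {s})]
    (N : ℕ) (hN : ∀ a : A', (∃ m : ℕ, s ^ m * a = 0) → s ^ N * a = 0)
    {M : Type u} [CommRing M] [Algebra L' M] [Algebra.FiniteType L' M]
    {Q : Type u} [CommRing Q] [Algebra M Q] [Algebra.Smooth M Q]
    (σ₀ : M →ₐ[L'] L') (q₀ : Q →+* L') (hq₀ : q₀.comp (algebraMap M Q) = σ₀.toRingHom) :
    ∃ (S : Finset M) (n : ℕ), ∀ σ : M →ₐ[L'] L', (∀ x ∈ S, Small s n (σ x - σ₀ x)) →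
      ∃ q : Q →+* L', q.comp (algebraMap M Q) = σ.toRingHom := by
  classical
  let _ : Algebra A' M := ((algebraMap L' M).comp (algebraMap A' L')).toAlgebra
  have : IsScalarTower A' L' M := IsScalarTower.of_algebraMap_eq fun _ => rfl
  have : IsLocalization.Away ((RingHom.id A') s) L' := ‹_›
  have hσA : ∀ a : A', σ₀.toRingHom (algebraMap A' M a) = algebraMap A' L' ((RingHom.id A') a) := fun a => by
    rw [IsScalarTower.algebraMap_apply A' L' M]; exact σ₀.commutes _
  obtain ⟨r, z, x, hx, hgen⟩ := exists_model s (RingHom.id A') M L' σ₀.toRingHom hσA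
  -- the base model
  let J := modelIdeal (RingHom.id A') z x
  let B := MvPolynomial (Fin r) A' ⧸ J
  let _ : Algebra B M := (modelMap (RingHom.id A') z x).toRingHom.toAlgebra
  have hlocM := isLocalization_model s (RingHom.id A') z x L' σ₀.toRingHom hσA hx hgen (fun q => rfl)
  let sB : B := algebraMap A' B s
  have : IsLocalization.Away sB M := by
    have h := hlocM
    rwa [Algebra.algebraMapSubmonoid, Submonoid.map_powers] at h
  let δ₀ : B →+* A' := modelPt (RingHom.id A') z x
  have hδs : ∀ δ : B →+* A', (∀ a, δ (algebraMap A' B a) = a) → δ sB = s := fun δ h => h s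
  have hδ₀ : ∀ a, δ₀ (algebraMap A' B a) = a := fun a => eval₂Hom_C (RingHom.id A') x a
  have : IsLocalization.Away (δ₀ sB) L' := by rwa [hδs δ₀ hδ₀]
  let _ : Algebra B Q := ((algebraMap M Q).comp (algebraMap B M)).toAlgebra
  have : IsScalarTower B M Q := IsScalarTower.of_algebraMap_eq fun _ => rfl
  have hσB : ∀ b : B, σ₀ (algebraMap B M b) = algebraMap A' L' (δ₀ b) := by
    intro b
    obtain ⟨b, rfl⟩ := Ideal.Quotient.mk_surjective b
    exact RingHom.congr_fun (MvPolynomial.ringHom_ext
      (f := σ₀.toRingHom.comp (aeval z : MvPolynomial (Fin r) A' →ₐ[A'] M).toRingHom)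
      (g := (algebraMap A' L').comp (eval₂Hom (RingHom.id A') x))
      (fun a => by simpa using hσA a) (fun i => by simpa using hx i)) b
  have hqB : ∀ b : B, q₀ (algebraMap B Q b) = algebraMap A' L' (δ₀ b) := fun b => by
    rw [← hσB, IsScalarTower.algebraMap_apply B M Q]
    exact RingHom.congr_fun hq₀ _
  obtain ⟨r₂, z₂, x₂, hx₂, hgen₂⟩ := exists_model sB δ₀ Q M q₀ hqB
  obtain ⟨d⟩ := nonempty_data sB δ₀ z₂ x₂ M q₀ hqB hx₂ hgen₂
  set p := d.c + N + 1 with hp
  set n := 2 * p + d.c + 1 + N with hn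
  refine ⟨Finset.univ.image z, n, fun σ hσ => ?_⟩
  choose w hw using fun i => hσ (z i) (Finset.mem_image_of_mem z (Finset.mem_univ i))
  let y : Fin r → A' := fun i => x i + s ^ n * w i
  have hy : ∀ i, σ (z i) = algebraMap A' L' (y i) := fun i => by
    rw [map_add, ← hw i, show algebraMap A' L' (x i) = σ₀ (z i) from (hx i).symm, add_sub_cancel]
  let π := Ideal.Quotient.mk (Ideal.span {s ^ n})
  have hπ : π.comp (eval₂Hom (RingHom.id A') y) = π.comp (eval₂Hom (RingHom.id A') x) :=
    MvPolynomial.ringHom_ext (fun a => by simp) (fun i => by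
      simp only [RingHom.comp_apply, eval₂Hom_X', y, π]
      rw [Ideal.Quotient.eq, add_sub_cancel_left]
      exact Ideal.mem_span_singleton.2 (dvd_mul_right _ _))
  have hJ : ∀ g ∈ J, eval₂Hom (RingHom.id A') y g = 0 := by
    intro g hg
    have h1 := RingHom.congr_fun hπ g
    rw [RingHom.comp_apply, RingHom.comp_apply, show eval₂Hom (RingHom.id A') x g = 0 from hg.2, map_zero] at h1
    obtain ⟨v, hv⟩ := Ideal.mem_span_singleton.1 (Ideal.Quotient.eq_zero_iff_mem.1 h1)
    have h2 : algebraMap A' L' (s ^ n * v) = 0 := by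
      rw [← hv, ← RingHom.comp_apply, ← MvPolynomial.ringHom_ext
        (f := σ.toRingHom.comp (aeval z : MvPolynomial (Fin r) A' →ₐ[A'] M).toRingHom)
        (g := (algebraMap A' L').comp (eval₂Hom (RingHom.id A') y))
        (fun a => by simp [IsScalarTower.algebraMap_apply A' L' M]) (fun i => by simpa using hy i),
        RingHom.comp_apply, show (aeval z : MvPolynomial (Fin r) A' →ₐ[A'] M).toRingHom g = 0 from hg.1, map_zero]
    obtain ⟨⟨_, m, rfl⟩, hm⟩ := (IsLocalization.eq_iff_exists (Submonoid.powers s) L').1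
      (h2.trans (map_zero _).symm)
    simp only [mul_zero, ← mul_assoc, ← pow_add] at hm
    have h3 := hN v ⟨_, hm⟩
    rw [hv, show n = (2 * p + d.c + 1) + N from hn, pow_add, mul_assoc, h3, mul_zero]
  let δ : B →+* A' := Ideal.Quotient.lift J (eval₂Hom (RingHom.id A') y) hJ
  have hδ : ∀ a, δ (algebraMap A' B a) = a := fun a => eval₂Hom_C (RingHom.id A') y a
  have hδπ : π.comp δ = π.comp δ₀ := Ideal.Quotient.ringHom_ext hπ
  have hσδ : ∀ b : B, σ (algebraMap B M b) = algebraMap A' L' (δ b) := by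
    intro b
    obtain ⟨b, rfl⟩ := Ideal.Quotient.mk_surjective b
    exact RingHom.congr_fun (MvPolynomial.ringHom_ext
      (f := σ.toRingHom.comp (aeval z : MvPolynomial (Fin r) A' →ₐ[A'] M).toRingHom)
      (g := (algebraMap A' L').comp (eval₂Hom (RingHom.id A') y))
      (fun a => by simp [IsScalarTower.algebraMap_apply A' L' M]) (fun i => by simpa using hy i)) b
  -- the fibre
  have happ : ∀ g ∈ (modelIdeal δ₀ z₂ x₂).map (MvPolynomial.map δ),
      eval x₂ g ∈ Ideal.span {δ sB ^ (2 * p + d.c + 1)} := by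
    intro g hg
    refine (Ideal.map_le_iff_le_comap (K := (Ideal.span {δ sB ^ (2 * p + d.c + 1)}).comap (eval x₂))).2
      (fun g₀ hg₀ => ?_) hg
    rw [Ideal.mem_comap, Ideal.mem_comap, eval_map, hδs δ hδ]
    have h1 : π.comp (eval₂Hom δ x₂) = π.comp (eval₂Hom δ₀ x₂) :=
      MvPolynomial.ringHom_ext (fun b => by simpa using RingHom.congr_fun hδπ b) (fun i => by simp)
    have h2 := RingHom.congr_fun h1 g₀
    rw [RingHom.comp_apply, RingHom.comp_apply, show eval₂Hom δ₀ x₂ g₀ = 0 from hg₀.2, map_zero] at h2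
    exact Ideal.span_singleton_le_span_singleton.2 (pow_dvd_pow s (by omega))
      (Ideal.Quotient.eq_zero_iff_mem.1 h2)
  have : HenselianRing A' (Ideal.span {δ sB}) := by rw [hδs δ hδ]; infer_instance
  obtain ⟨b, hb0, -⟩ := Groth.Calg7.Elkik.exists_root (δ sB) N
    (by rw [hδs δ hδ]; exact hN) (dataMap δ d) p (show d.c < p by omega) (by omega) x₂ happ
  let C := MvPolynomial (Fin r₂) B ⧸ modelIdeal δ₀ z₂ x₂
  let _ : Algebra C Q := (modelMap δ₀ z₂ x₂).toRingHom.toAlgebra
  have hlocQ := isLocalization_model sB δ₀ z₂ x₂ M q₀ hqB hx₂ hgen₂ (fun q => rfl)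
  let c₀ : C →+* L' := (algebraMap A' L').comp
    (Ideal.Quotient.lift (modelIdeal δ₀ z₂ x₂) (eval₂Hom δ b) fun g hg => by
      have := hb0 _ (Ideal.mem_map_of_mem (MvPolynomial.map δ) hg)
      rwa [eval_map] at this)
  have hu : ∀ y : Algebra.algebraMapSubmonoid C (Submonoid.powers sB), IsUnit (c₀ y) := by
    rintro ⟨_, _, ⟨j, rfl⟩, rfl⟩
    show IsUnit (algebraMap A' L' (eval₂Hom δ b (MvPolynomial.C (sB ^ j))))
    rw [eval₂Hom_C, map_pow, map_pow, hδs δ hδ]
    exact (IsLocalization.Away.algebraMap_isUnit s).pow j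
  refine ⟨IsLocalization.lift (S := Q) hu, IsLocalization.ringHom_ext (Submonoid.powers sB)
    (RingHom.ext fun b' => ?_)⟩
  show IsLocalization.lift (S := Q) hu (algebraMap M Q (algebraMap B M b')) = σ (algebraMap B M b')
  rw [hσδ, ← IsScalarTower.algebraMap_apply B M Q,
    show algebraMap B Q b' = algebraMap C Q (Ideal.Quotient.mk _ (MvPolynomial.C b')) from
      ((modelMap δ₀ z₂ x₂).commutes b').symm, IsLocalization.lift_eq]
  show algebraMap A' L' (eval₂Hom δ b (MvPolynomial.C b')) = _
  rw [eval₂Hom_C]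

end param

section unramified

variable {A' : Type u} [CommRing A'] (s : A') {L' : Type u} [CommRing L'] [Algebra A' L']
  [IsLocalization.Away s L']

/-- Nearby points of an unramified algebra are equal. -/
theorem exists_sep (hs : s ∈ (⊥ : Ideal A').jacobson) {L : Type u} [CommRing L] (g : L →+* L')
    {H : Type u} [CommRing H] [Algebra L H] [Algebra.FormallyUnramified L H] [Algebra.FiniteType L H]
    (σ₁ : H →+* L') (h₁ : σ₁.comp (algebraMap L H) = g) :
    ∃ (S : Finset H) (n : ℕ), ∀ σ₂ : H →+* L', σ₂.comp (algebraMap L H) = g →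
      (∀ x ∈ S, Small s n (σ₂ x - σ₁ x)) → σ₂ = σ₁ := by
  classical
  obtain ⟨T, hT, hT1⟩ := Algebra.FormallyUnramified.iff_exists_tensorProduct.1
    (inferInstance : Algebra.FormallyUnramified L H)
  obtain ⟨F, hF⟩ := TensorProduct.exists_finset T
  choose k a ha using fun i : H × H => IsLocalization.Away.surj s (σ₁ i.1)
  refine ⟨F.image Prod.snd, F.sup k + 1, fun σ₂ h₂ hclose => ?_⟩
  let _ : Algebra L L' := g.toAlgebra
  let f₁ : H →ₐ[L] L' := { σ₁ with commutes' := fun l => RingHom.congr_fun h₁ l }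
  let f₂ : H →ₐ[L] L' := { σ₂ with commutes' := fun l => RingHom.congr_fun h₂ l }
  let Φ : TensorProduct L H H →ₐ[L] L' := Algebra.TensorProduct.productMap f₁ f₂
  have hfg : ∀ x : H, σ₁ x * Φ T = σ₂ x * Φ T := fun x => by
    have h := congrArg Φ (hT x)
    rw [map_mul, map_sub, map_zero, sub_mul, sub_eq_zero] at h
    simpa [Φ, f₁, f₂] using h.symm
  have hμ : σ₁ (Algebra.TensorProduct.lmul' L T) = 1 := by rw [hT1, map_one]
  have hidem : IsIdempotentElem (Φ T) := by
    show Φ T * Φ T = Φ T
    have : ∀ u : TensorProduct L H H, Φ u * Φ T = σ₁ (Algebra.TensorProduct.lmul' L u) * Φ T := by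
      intro u
      induction u with
      | zero => simp
      | tmul x y =>
        rw [Algebra.TensorProduct.lmul'_apply_tmul, map_mul, show Φ (x ⊗ₜ y) = σ₁ x * σ₂ y from rfl,
          mul_assoc, ← hfg, ← mul_assoc]
      | add x y hx hy => rw [map_add, map_add, map_add, add_mul, add_mul, hx, hy]
    rw [this, hμ, one_mul]
  have hsmall : ∃ y : A', Φ T - 1 = algebraMap A' L' (s * y) := by
    have hsum : Φ T - 1 = ∑ i ∈ F, σ₁ i.1 * (σ₂ i.2 - σ₁ i.2) := by
      conv_lhs => rw [← hμ, hF, map_sum, map_sum, map_sum]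
      rw [← Finset.sum_sub_distrib]
      refine Finset.sum_congr rfl fun i _ => ?_
      rw [Algebra.TensorProduct.lmul'_apply_tmul, map_mul, mul_sub]
      rfl
    choose w hw using hclose
    have hterm : ∀ i ∈ F, ∃ y, σ₁ i.1 * (σ₂ i.2 - σ₁ i.2) = algebraMap A' L' (s * y) := by
      intro i hi
      have hik := Finset.le_sup (f := k) hi
      refine ⟨s ^ (F.sup k - k i) * w i.2 (Finset.mem_image_of_mem _ hi) * a i, ?_⟩
      rw [hw i.2 (Finset.mem_image_of_mem _ hi), show s ^ (F.sup k + 1) = s ^ k i * (s * s ^ (F.sup k - k i)) by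
        rw [← pow_succ', ← pow_add]; congr 1; omega]
      simp only [map_mul, map_pow]
      have := ha i
      linear_combination (algebraMap A' L' s * algebraMap A' L' s ^ (F.sup k - k i) *
        algebraMap A' L' (w i.2 (Finset.mem_image_of_mem _ hi))) * this
    choose! y hy using hterm
    exact ⟨∑ i ∈ F, y i, by rw [hsum, Finset.mul_sum, map_sum]; exact Finset.sum_congr rfl hy⟩
  obtain ⟨y, hy⟩ := hsmall
  have he1 : Φ T = 1 := Groth.Calg7.IdemAway.eq_of_sub_mem (algebraMap A' L') s hs hidem .one y hy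
  exact RingHom.ext fun x => by simpa [he1] using (hfg x).symm

variable {A : Type u} [CommRing A] (φ : A →+* A') (t : A)

/-- Points over `A[1/t]` of an unramified algebra are determined over `A'[1/t]`. -/
theorem point_ext [HenselianRing A (Ideal.span {t})] (hiso : Groth.Calg7.IdemAway.IsoModPowers φ t)
    (ht' : φ t ∈ (⊥ : Ideal A').jacobson)
    {H : Type u} [CommRing H] [Algebra (Localization.Away t) H] [Algebra.FormallyUnramified (Localization.Away t) H]
    [Algebra.FiniteType (Localization.Away t) H] (τ₁ τ₂ : H →ₐ[Localization.Away t] Localization.Away t)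
    (h : ∀ x, Localization.awayMap φ t (τ₁ x) = Localization.awayMap φ t (τ₂ x)) : τ₁ = τ₂ := by
  obtain ⟨T, hT, hT1⟩ := Algebra.FormallyUnramified.iff_exists_tensorProduct.1
    (inferInstance : Algebra.FormallyUnramified (Localization.Away t) H)
  let Φ := Algebra.TensorProduct.productMap τ₁ τ₂
  have hfg : ∀ x : H, τ₁ x * Φ T = τ₂ x * Φ T := fun x => by
    have h := congrArg Φ (hT x)
    rw [map_mul, map_sub, map_zero, sub_mul, sub_eq_zero] at h
    simpa [Φ] using h.symm
  have hμ : τ₁ (Algebra.TensorProduct.lmul' (Localization.Away t) T) = 1 := by rw [hT1, map_one]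
  have hidem : IsIdempotentElem (Φ T) := by
    show Φ T * Φ T = Φ T
    have : ∀ u, Φ u * Φ T = τ₁ (Algebra.TensorProduct.lmul' (Localization.Away t) u) * Φ T := by
      intro u
      induction u with
      | zero => simp
      | tmul x y =>
        rw [Algebra.TensorProduct.lmul'_apply_tmul, map_mul, show Φ (x ⊗ₜ y) = τ₁ x * τ₂ y from rfl,
          mul_assoc, ← hfg, ← mul_assoc]
      | add x y hx hy => rw [map_add, map_add, map_add, add_mul, add_mul, hx, hy]
    rw [this, hμ, one_mul]
  have himg : Localization.awayMap φ t (Φ T) = 1 := by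
    rw [← map_one (Localization.awayMap φ t), ← hμ]
    clear hT hT1 hfg hμ hidem
    induction T with
    | zero => simp
    | tmul x y =>
      rw [Algebra.TensorProduct.lmul'_apply_tmul, map_mul τ₁, show Φ (x ⊗ₜ y) = τ₁ x * τ₂ y from rfl,
        map_mul, map_mul, h y]
    | add x y hx hy => simp only [map_add, hx, hy]
  obtain ⟨e, -, he⟩ := Groth.Calg7.IdemAway.existsUnique_idem φ t hiso ht' 1 .one
  have he1 : Φ T = 1 := (he _ ⟨hidem, himg⟩).trans (he _ ⟨.one, map_one _⟩).symm
  exact AlgHom.ext fun x => by simpa [he1] using hfg x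

end unramified

end Groth.Misc12.ElkikFEt
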