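import Mathlib
import Groth.Agent.Calg7.IdemAway
import Groth.Agent.HensPair.Truncation
import Groth.Agent.HensPair.Universal
import Groth.Agent.HensPair.Basic
import Groth.Prelude.Def_Hens2

/-!
# The two standard settings: completion and Laurent series
-/

set_option autoImplicit false

universe u

namespace Groth.Misc12.ElkikFEt

open Polynomial

section adic

variable (A : Type u) [CommRing A] (t : A)

theorem isoModPowers_completion :
    Groth.Calg7.IdemAway.IsoModPowers (algebraMap A (AdicCompletion (Ideal.span {t}) A)) t := by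
  have hfg : (Ideal.span {t}).FG := Submodule.fg_span_singleton t
  have hmap : ∀ (N : ℕ), ((Ideal.span {t}) ^ N • ⊤ : Submodule A (AdicCompletion (Ideal.span {t}) A)) =
      (Ideal.span {algebraMap A (AdicCompletion (Ideal.span {t}) A) t ^ N} : Ideal _).restrictScalars A := by
    intro N
    rw [Ideal.smul_top_eq_map, Ideal.map_pow, Ideal.map_span, Set.image_singleton,
      Ideal.span_singleton_pow]
  refine ⟨fun N a ha => ?_, fun N x => ?_⟩
  · have h1 : algebraMap A (AdicCompletion (Ideal.span {t}) A) a ∈
        ((Ideal.span {t}) ^ N • ⊤ : Submodule A (AdicCompletion (Ideal.span {t}) A)) := by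
      rw [hmap]; exact ha
    rw [AdicCompletion.pow_smul_top_eq_ker_eval hfg, LinearMap.mem_ker] at h1
    have h2 : a ∈ ((Ideal.span {t}) ^ N • ⊤ : Submodule A A) := by
      rw [← Submodule.Quotient.mk_eq_zero]
      rw [AdicCompletion.algebraMap_apply, Algebra.algebraMap_self, RingHom.id_apply, AdicCompletion.eval_of] at h1
      exact h1
    rw [smul_eq_mul, Ideal.mul_top, Ideal.span_singleton_pow] at h2
    exact h2
  · obtain ⟨a, ha⟩ := Submodule.Quotient.mk_surjective _ (AdicCompletion.eval (Ideal.span {t}) A N x)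
    refine ⟨a, ?_⟩
    have h1 : x - algebraMap A (AdicCompletion (Ideal.span {t}) A) a ∈
        ((Ideal.span {t}) ^ N • ⊤ : Submodule A (AdicCompletion (Ideal.span {t}) A)) := by
      rw [AdicCompletion.pow_smul_top_eq_ker_eval hfg, LinearMap.mem_ker, map_sub, sub_eq_zero, ← ha]
      rw [AdicCompletion.algebraMap_apply, Algebra.algebraMap_self, RingHom.id_apply, AdicCompletion.eval_of]
      rfl
    rw [hmap] at h1
    exact h1

theorem henselianRing_completion :
    HenselianRing (AdicCompletion (Ideal.span {t}) A)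
      (Ideal.span {algebraMap A (AdicCompletion (Ideal.span {t}) A) t}) := by
  haveI : IsAdicComplete (Ideal.span {t}) (AdicCompletion (Ideal.span {t}) A) :=
    AdicCompletion.isAdicComplete (Submodule.fg_span_singleton t)
  haveI hc : IsAdicComplete ((Ideal.span {t}).map (algebraMap A (AdicCompletion (Ideal.span {t}) A)))
      (AdicCompletion (Ideal.span {t}) A) :=
    (IsAdicComplete.map_algebraMap_iff _ _).2 inferInstance
  have : (Ideal.span {t}).map (algebraMap A (AdicCompletion (Ideal.span {t}) A)) =
      Ideal.span {algebraMap A (AdicCompletion (Ideal.span {t}) A) t} := by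
    rw [Ideal.map_span, Set.image_singleton]
  rw [← this]
  infer_instance

/-- Bounded torsion passes to the completion. -/
theorem bounded_completion {N : ℕ} (hN : ∀ a : A, (∃ m : ℕ, t ^ m * a = 0) → t ^ N * a = 0)
    (x : AdicCompletion (Ideal.span {t}) A)
    (hx : ∃ m : ℕ, algebraMap A (AdicCompletion (Ideal.span {t}) A) t ^ m * x = 0) :
    algebraMap A (AdicCompletion (Ideal.span {t}) A) t ^ N * x = 0 := by
  obtain ⟨m, hm⟩ := hx
  let φ := algebraMap A (AdicCompletion (Ideal.span {t}) A)
  have hiso := isoModPowers_completion A t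
  haveI : IsAdicComplete (Ideal.span {t}) (AdicCompletion (Ideal.span {t}) A) :=
    AdicCompletion.isAdicComplete (Submodule.fg_span_singleton t)
  refine IsHausdorff.haus (I := Ideal.span {t}) inferInstance _ fun K => ?_
  rw [SModEq.zero, Ideal.smul_top_eq_map, Ideal.map_pow, Ideal.map_span, Set.image_singleton,
    Ideal.span_singleton_pow]
  obtain ⟨a, ha⟩ := hiso.surj (K + m) x
  obtain ⟨w, hw⟩ := Ideal.mem_span_singleton.1 ha
  obtain ⟨c, hc⟩ := Ideal.mem_span_singleton.1 (hiso.inj (K + m) (t ^ m * a) (Ideal.mem_span_singleton.2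
    ⟨-(φ t ^ m * w), by
      show φ (t ^ m * a) = φ t ^ (K + m) * -(φ t ^ m * w)
      rw [map_mul, map_pow]
      linear_combination hm - φ t ^ m * hw⟩))
  have h0 := hN (a - t ^ K * c) ⟨m, by rw [mul_sub, hc, pow_add]; ring⟩
  have h1 : φ t ^ N * φ a = φ t ^ N * (φ t ^ K * φ c) := by
    rw [← map_pow φ t K, ← map_mul, ← map_pow, ← map_mul, ← map_mul]
    exact congrArg φ (sub_eq_zero.1 (by rw [← mul_sub]; exact h0))
  refine Ideal.mem_span_singleton.2 ⟨φ t ^ N * (φ c + φ t ^ m * w), ?_⟩
  show φ t ^ N * x = φ t ^ K * _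
  rw [pow_add] at hw
  linear_combination φ t ^ N * hw + h1

end adic

section laurent

variable {R : Type u} [CommRing R] {B : Type u} [CommRing B] [Algebra R[X] B]
  (hB : Hens2.IsPairHenselization R[X] (Ideal.span {(X : R[X])}) B) (ψ : B →ₐ[R[X]] PowerSeries R)

theorem psi_apply (f : R[X]) : ψ (algebraMap R[X] B f) = (f : PowerSeries R) := ψ.commutes f

theorem psi_X : ψ.toRingHom (algebraMap R[X] B X) = (PowerSeries.X : PowerSeries R) :=
  (psi_apply ψ X).trans Polynomial.coe_X

include hB

theorem henselianRing_laurent : HenselianRing B (Ideal.span {algebraMap R[X] B X}) := by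
  have hspan : (Ideal.span {(X : R[X])}).map (algebraMap R[X] B) = Ideal.span {algebraMap R[X] B X} := by
    rw [Ideal.map_span, Set.image_singleton]
  exact hspan ▸ hB.1

theorem isoModPowers_laurent :
    Groth.Calg7.IdemAway.IsoModPowers ψ.toRingHom (algebraMap R[X] B X) := by
  refine ⟨fun N b hb => ?_, fun N x => ?_⟩
  · obtain ⟨y, hy⟩ := (Groth.HensPair.quotPow_bijective hB N).2 (Ideal.Quotient.mk _ b)
    obtain ⟨f, rfl⟩ := Ideal.Quotient.mk_surjective y
    rw [Ideal.quotientMap_mk, Ideal.Quotient.eq, Ideal.span_singleton_pow, Ideal.map_span,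
      Set.image_singleton, map_pow] at hy
    have hf : (f : PowerSeries R) ∈ Ideal.span {PowerSeries.X ^ N} := by
      rw [← psi_apply ψ, ← psi_X ψ]
      have := Ideal.mem_map_of_mem ψ.toRingHom hy
      rw [Ideal.map_span, Set.image_singleton, map_pow, map_sub] at this
      simpa using add_mem this hb
    have hf' : (X : R[X]) ^ N ∣ f := by
      rw [Polynomial.X_pow_dvd_iff]
      intro d hd
      have := PowerSeries.X_pow_dvd_iff.1 (Ideal.mem_span_singleton.1 hf) d hd
      simpa using this
    have hf'' : algebraMap R[X] B f ∈ Ideal.span {(algebraMap R[X] B X) ^ N} := by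
      rw [Ideal.mem_span_singleton, ← map_pow]
      exact map_dvd _ hf'
    simpa using sub_mem hf'' hy
  · refine ⟨algebraMap R[X] B (PowerSeries.trunc N x), Ideal.mem_span_singleton.2 ?_⟩
    rw [psi_X ψ, show ψ.toRingHom (algebraMap R[X] B (PowerSeries.trunc N x)) = _ from psi_apply ψ _,
      PowerSeries.X_pow_dvd_iff]
    intro i hi
    rw [map_sub, Polynomial.coeff_coe, PowerSeries.coeff_trunc, if_pos hi, sub_self]

theorem bounded_laurent (b : B) (h : ∃ m : ℕ, (algebraMap R[X] B X) ^ m * b = 0) :
    (algebraMap R[X] B X) ^ 0 * b = 0 := by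
  have hflat : Module.Flat R[X] B := Groth.HensPair.flat_of_isPairHenselization hB
  obtain ⟨m, hm⟩ := h
  have hinj : Function.Injective (LinearMap.mulLeft R[X] ((X : R[X]) ^ m)) := fun p q hpq =>
    ((monic_X_pow m).isRegular.left hpq)
  have hT := Module.Flat.lTensor_preserves_injective_linearMap (M := B) _ hinj
  rw [pow_zero, one_mul]
  have : b ⊗ₜ[R[X]] ((1 : R[X])) = 0 := hT (by
    rw [LinearMap.lTensor_tmul, LinearMap.mulLeft_apply, mul_one, map_zero,
      show (X : R[X]) ^ m = ((X : R[X]) ^ m) • (1 : R[X]) by simp, TensorProduct.tmul_smul,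
      TensorProduct.smul_tmul', Algebra.smul_def, map_pow, hm, TensorProduct.zero_tmul])
  simpa using congrArg (TensorProduct.rid R[X] B) this

omit hB in
theorem bounded_powerSeries (f : PowerSeries R)
    (h : ∃ m : ℕ, (PowerSeries.X : PowerSeries R) ^ m * f = 0) :
    (PowerSeries.X : PowerSeries R) ^ 0 * f = 0 := by
  obtain ⟨m, hm⟩ := h
  rw [pow_zero, one_mul]
  ext n
  have := congrArg (PowerSeries.coeff (n + m)) hm
  simpa [PowerSeries.coeff_X_pow_mul] using this

omit hB in
theorem henselianRing_powerSeries :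
    HenselianRing (PowerSeries R) (Ideal.span {ψ.toRingHom (algebraMap R[X] B X)}) := by
  rw [psi_X ψ]
  infer_instance

end laurent

end Groth.Misc12.ElkikFEt
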