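import Groth.Agent.Misc12.ElkikFEt.Points
import Groth.Agent.NeronArea.MappingDescent
import Groth.Agent.AlgSpBasic.LocPInst
import Groth.Agent.EtaleBase.FpqcDescent
import Groth.Agent.AlgSp2.SmoothDescent
import Groth.Prelude.Def_NonAbH2

/-!
# Sections of smooth affine schemes and torsors along `A[1/t] → A'[1/t]`
-/

set_option autoImplicit false
set_option backward.isDefEq.respectTransparency false
set_option backward.isDefEq.respectTransparency.types false

universe u

open CategoryTheory AlgebraicGeometry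

namespace Groth.Misc12.ElkikFEt

variable {A A' : Type u} [CommRing A] [CommRing A'] (φ : A →+* A') (t : A)
  {L : Type u} [CommRing L] [Algebra A L] [IsLocalization.Away t L]
  {L' : Type u} [CommRing L'] [Algebra A' L'] [IsLocalization.Away (φ t) L']

/-- Smooth affine schemes with a point over `A'[1/t]` have points over `A[1/t]`. -/
theorem exists_section [HenselianRing A (Ideal.span {t})] (hiso : Groth.Calg7.IdemAway.IsoModPowers φ t)
    {N₀ : ℕ} (hN₀ : ∀ a : A, (∃ m : ℕ, t ^ m * a = 0) → t ^ N₀ * a = 0)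
    (g : L →+* L') (hg : ∀ a : A, g (algebraMap A L a) = algebraMap A' L' (φ a))
    {X : Scheme.{u}} [IsAffine X] (p : X ⟶ Spec (CommRingCat.of L)) [Smooth p]
    (σ : Spec (CommRingCat.of L') ⟶ X) (hσ : σ ≫ p = Spec.map (CommRingCat.ofHom g)) :
    ∃ s : Spec (CommRingCat.of L) ⟶ X, s ≫ p = 𝟙 _ := by
  obtain ⟨ψ, hψ⟩ := Spec.map_surjective (X.isoSpec.inv ≫ p)
  obtain ⟨χ, hχ⟩ := Spec.map_surjective (σ ≫ X.isoSpec.hom)
  have hsm : Smooth (Spec.map ψ) := by rw [hψ]; infer_instance
  algebraize [ψ.hom]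
  have : Algebra.Smooth L Γ(X, ⊤) :=
    RingHom.smooth_algebraMap.mp ((HasRingHomProperty.Spec_iff (P := @Smooth)).mp hsm)
  have hcomp : χ.hom.comp (algebraMap L Γ(X, ⊤)) = g := by
    refine congrArg CommRingCat.Hom.hom (Spec.map_injective (a₁ := ψ ≫ χ) (a₂ := CommRingCat.ofHom g) ?_)
    rw [Spec.map_comp, hψ, hχ, Category.assoc, Iso.hom_inv_id_assoc, hσ]
  obtain ⟨τ, -⟩ := exists_point φ t hiso N₀ hN₀ g hg χ.hom hcomp ∅ 0
  refine ⟨Spec.map (CommRingCat.ofHom τ.toRingHom) ≫ X.isoSpec.inv, ?_⟩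
  rw [Category.assoc, ← hψ, ← Spec.map_comp, ← Spec.map_id]
  congr 1
  exact CommRingCat.hom_ext (RingHom.ext fun l => τ.commutes l)

/-- Torsors under smooth affine groups which become trivial over `A'[1/t]` are trivial. -/
theorem hasSectionOver [HenselianRing A (Ideal.span {t})] (hiso : Groth.Calg7.IdemAway.IsoModPowers φ t)
    {N₀ : ℕ} (hN₀ : ∀ a : A, (∃ m : ℕ, t ^ m * a = 0) → t ^ N₀ * a = 0)
    (g : L →+* L') (hg : ∀ a : A, g (algebraMap A L a) = algebraMap A' L' (φ a))
    (G : Over (Spec (CommRingCat.of L))) [GrpObj G] [IsAffine G.left] [Smooth G.hom]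
    (P : Over (Spec (CommRingCat.of L))) (a : AlgGrp.Action G P)
    (hP : NonAbH1.IsTorsorFor Scheme.fppfPrecoverage a)
    (hsec : NonAbH1.HasSectionOver P (Spec.map (CommRingCat.ofHom g))) :
    NonAbH1.HasSectionOver P (𝟙 _) := by
  have : MorphismProperty.IsLocalAtTarget @IsAffineHom.{u} Scheme.fppfPrecoverage :=
    Groth.AlgSpBasic.isLocalAtTarget_fppf _
  have : IsAffineHom G.hom := (HasAffineProperty.iff_of_isAffine (P := @IsAffineHom) (f := G.hom)).2 inferInstance
  have : Smooth P.hom := Groth.NeronArea.property_of_isLocallyTrivial a hP.1 @Smooth hP.2 inferInstance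
  have : IsAffineHom P.hom := Groth.NeronArea.property_of_isLocallyTrivial a hP.1 @IsAffineHom hP.2 inferInstance
  have : IsAffine P.left := isAffine_of_isAffineHom P.hom
  obtain ⟨σ, hσ⟩ := hsec
  exact exists_section φ t hiso hN₀ g hg P.hom σ hσ

end Groth.Misc12.ElkikFEt
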